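import Groth.Agent.NodalLib.Quad
import Groth.Agent.LS17.NodeAlg
import Groth.Agent.NodeLib.Completion
import Groth.Agent.PSLib.Basic
import Groth.Prelude.Def_CurvBase
import Mathlib.RingTheory.Ideal.KrullsHeightTheorem
import Mathlib.RingTheory.KrullDimension.NonZeroDivisors

/-!
# Ordinary double points are the rational points with a regular element and `Fitt₁ = 𝔪`
-/

set_option autoImplicit false
set_option linter.unusedSectionVars false
set_option linter.style.haveILetI false

universe u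

open IsLocalRing Module Groth.Agent.LS17.NodeAlg
open scoped nonZeroDivisors

namespace Groth.Agent.NodalLib

section NodeRing

variable (K : Type u) [Field K]

/-- The coordinates of the double point. -/
noncomputable abbrev xN (j : Fin 2) : Node K := Ideal.Quotient.mk (axes K) (MvPowerSeries.X j)

variable {K}

theorem branch_xN (i j : Fin 2) : branch K i (xN K j) = if j = i then PowerSeries.X else 0 := by
  classical
  show axisHom K i (MvPowerSeries.X j) = _
  split_ifs with h
  · subst h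
    ext n
    rw [coeff_axisHom, MvPowerSeries.coeff_X, PowerSeries.coeff_X]
    by_cases hn : n = 1
    · subst hn; simp
    · rw [if_neg hn, if_neg fun h => hn (Finsupp.single_injective j h)]
  · exact axisHom_X_other h

theorem mem_maximalIdeal_node [IsLocalRing (Node K)] {r : Node K} :
    r ∈ maximalIdeal (Node K) ↔ ∀ j, PowerSeries.constantCoeff (branch K j r) = 0 := by
  refine ⟨fun h j => ?_, fun h hu => ?_⟩
  · by_contra hne
    exact h (isUnit_of_constantCoeff_ne hne)
  · have := (hu.map (branch K 0)).map PowerSeries.constantCoeff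
    rw [h 0] at this
    exact not_isUnit_zero this

theorem eq_of_branches {r r' : Node K} (h : ∀ j, branch K j r = branch K j r') : r = r' :=
  sub_eq_zero.1 (eq_zero_of_branches fun j => by rw [map_sub, h j, sub_self])

theorem exists_coords [IsLocalRing (Node K)] {r : Node K} (hr : r ∈ maximalIdeal (Node K)) :
    ∃ p q : Node K, r = xN K 0 * p + xN K 1 * q := by
  rw [mem_maximalIdeal_node] at hr
  choose c hc using fun j => PowerSeries.X_dvd_iff.2 (hr j)
  obtain ⟨p, hp⟩ := exists_lift (fun _ => c 0) rfl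
  obtain ⟨q, hq⟩ := exists_lift (fun _ => c 1) rfl
  refine ⟨p, q, eq_of_branches fun j => ?_⟩
  rw [map_add, map_mul, map_mul, hp, hq, branch_xN, branch_xN, hc j]
  fin_cases j <;> simp

theorem dvd_of_mem_sq [IsLocalRing (Node K)] {r : Node K} (hr : r ∈ maximalIdeal (Node K) ^ 2) (j : Fin 2) :
    PowerSeries.X ^ 2 ∣ branch K j r := by
  rw [← Ideal.mem_span_singleton, ← Ideal.span_singleton_pow]
  have h : (maximalIdeal (Node K)).map (branch K j) ≤ Ideal.span {PowerSeries.X} :=
    Ideal.map_le_iff_le_comap.2 fun x hx =>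
      Ideal.mem_span_singleton.2 (PowerSeries.X_dvd_iff.2 (mem_maximalIdeal_node.1 hx j))
  have h2 := Ideal.mem_map_of_mem (branch K j) hr
  rw [Ideal.map_pow] at h2
  exact Ideal.pow_right_mono h 2 h2

instance isReduced_node : IsReduced (Node K) :=
  ⟨fun r ⟨n, hn⟩ => eq_zero_of_branches fun j => by
    have h := congrArg (branch K j) hn
    rw [map_pow, map_zero] at h
    exact eq_zero_of_pow_eq_zero h⟩

end NodeRing

section Completion

variable {C : Type u} [CommRing C] [IsLocalRing C] [IsNoetherianRing C] [IsAdicComplete (maximalIdeal C) C]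

/-- Two generators with product in `𝔪³` can be moved to generators with product zero. -/
theorem exists_split {u v : C} (hm : maximalIdeal C = Ideal.span {u, v}) (huv : u * v ∈ maximalIdeal C ^ 3) :
    ∃ u' v' : C, maximalIdeal C = Ideal.span {u', v'} ∧ u' * v' = 0 ∧
      u' - u ∈ maximalIdeal C ^ 2 ∧ v' - v ∈ maximalIdeal C ^ 2 := by
  set M := maximalIdeal C with hMdef
  have key : ∀ (n : ℕ) (p : C × C), M = Ideal.span {p.1, p.2} → p.1 * p.2 ∈ M ^ (n + 3) →
      ∃ p' : C × C, M = Ideal.span {p'.1, p'.2} ∧ p'.1 * p'.2 ∈ M ^ (n + 1 + 3) ∧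
        p'.1 - p.1 ∈ M ^ (n + 2) ∧ p'.2 - p.2 ∈ M ^ (n + 2) := by
    rintro n ⟨a, b⟩ hab h
    have hs : M ^ (n + 3) = M ^ (n + 2) * Ideal.span {a} ⊔ M ^ (n + 2) * Ideal.span {b} := by
      rw [pow_succ M (n + 2), ← Ideal.mul_sup, ← Ideal.span_union, Set.singleton_union, ← hab]
    rw [hs] at h
    obtain ⟨s, hs', t, ht', hst⟩ := Submodule.mem_sup.1 h
    obtain ⟨α, hα, rfl⟩ := Ideal.mem_mul_span_singleton.1 hs'
    obtain ⟨β, hβ, rfl⟩ := Ideal.mem_mul_span_singleton.1 ht'
    have hαM : α ∈ M ^ 2 := Ideal.pow_le_pow_right (by omega) hα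
    have hβM : β ∈ M ^ 2 := Ideal.pow_le_pow_right (by omega) hβ
    refine ⟨(a - β, b - α), ?_, ?_, ?_, ?_⟩
    · have ha : a ∈ M := hab ▸ Ideal.subset_span (by simp)
      have hb : b ∈ M := hab ▸ Ideal.subset_span (by simp)
      refine le_antisymm (Submodule.le_of_le_smul_of_le_jacobson_bot (IsNoetherian.noetherian _)
        (jacobson_eq_maximalIdeal ⊥ bot_ne_top).ge ?_)
        (Ideal.span_le.2 (Set.insert_subset (M.sub_mem ha (Ideal.pow_le_self two_ne_zero hβM))
          (Set.singleton_subset_iff.2 (M.sub_mem hb (Ideal.pow_le_self two_ne_zero hαM)))))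
      conv_lhs => rw [hab]
      rw [smul_eq_mul, ← sq, Ideal.span_le, Set.insert_subset_iff, Set.singleton_subset_iff]
      constructor
      · exact Submodule.mem_sup.2 ⟨a - β, Ideal.subset_span (by simp), β, hβM, sub_add_cancel _ _⟩
      · exact Submodule.mem_sup.2 ⟨b - α, Ideal.subset_span (by simp), α, hαM, sub_add_cancel _ _⟩
    · have e : (a - β) * (b - α) = α * β := by linear_combination -hst
      show (a - β) * (b - α) ∈ _
      rw [e]
      exact Ideal.pow_le_pow_right (show n + 1 + 3 ≤ (n + 2) + (n + 2) by omega)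
        (pow_add M (n + 2) (n + 2) ▸ Ideal.mul_mem_mul hα hβ)
    · simpa using hβ
    · simpa using hα
  choose f hf1 hf2 hf3 hf4 using key
  let seq : ∀ n, {p : C × C // M = Ideal.span {p.1, p.2} ∧ p.1 * p.2 ∈ M ^ (n + 3)} :=
    Nat.rec ⟨(u, v), hm, huv⟩ fun n p => ⟨f n p.1 p.2.1 p.2.2, hf1 _ _ _ _, hf2 _ _ _ _⟩
  have hstep : ∀ n, (seq (n + 1)).1.1 - (seq n).1.1 ∈ M ^ (n + 2) ∧
      (seq (n + 1)).1.2 - (seq n).1.2 ∈ M ^ (n + 2) := fun n => ⟨hf3 _ _ _ _, hf4 _ _ _ _⟩
  have hlim : ∀ g : ℕ → C, (∀ n, g (n + 1) - g n ∈ M ^ (n + 2)) →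
      ∃ L : C, (∀ n, L - g n ∈ M ^ n) ∧ L - g 0 ∈ M ^ 2 := by
    intro g hg
    have hle : ∀ n m, n ≤ m → g m - g n ∈ M ^ (n + 2) := by
      intro n m hnm
      induction hnm with
      | refl => simp
      | @step m hnm ih =>
        have := (M ^ (n + 2)).add_mem (Ideal.pow_le_pow_right (Nat.add_le_add_right hnm 2) (hg m)) ih
        rwa [sub_add_sub_cancel] at this
    obtain ⟨L, hL⟩ := IsPrecomplete.prec (I := M) inferInstance (f := g) (fun {a b} hab => by
      rw [SModEq.sub_mem, smul_eq_mul, Ideal.mul_top, ← neg_sub, Ideal.neg_mem_iff]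
      exact Ideal.pow_le_pow_right (by omega) (hle a b hab))
    have hL' : ∀ n, L - g n ∈ M ^ n := fun n => by
      have := hL n
      rw [SModEq.sub_mem, smul_eq_mul, Ideal.mul_top] at this
      rwa [← neg_sub, Ideal.neg_mem_iff]
    refine ⟨L, hL', ?_⟩
    have := (M ^ 2).add_mem (hL' 2) (hle 0 2 (by omega))
    rwa [sub_add_sub_cancel] at this
  obtain ⟨U, hU, hU0⟩ := hlim (fun n => (seq n).1.1) fun n => (hstep n).1
  obtain ⟨V, hV, hV0⟩ := hlim (fun n => (seq n).1.2) fun n => (hstep n).2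
  replace hU0 : U - u ∈ M ^ 2 := hU0
  replace hV0 : V - v ∈ M ^ 2 := hV0
  refine ⟨U, V, ?_, ?_, hU0, hV0⟩
  · have hu : u ∈ M := hm ▸ Ideal.subset_span (by simp)
    have hv : v ∈ M := hm ▸ Ideal.subset_span (by simp)
    have hUm : U ∈ M := by simpa using M.add_mem (Ideal.pow_le_self two_ne_zero hU0) hu
    have hVm : V ∈ M := by simpa using M.add_mem (Ideal.pow_le_self two_ne_zero hV0) hv
    refine le_antisymm (Submodule.le_of_le_smul_of_le_jacobson_bot (IsNoetherian.noetherian _)
      (jacobson_eq_maximalIdeal ⊥ bot_ne_top).ge ?_)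
      (Ideal.span_le.2 (Set.insert_subset hUm (Set.singleton_subset_iff.2 hVm)))
    conv_lhs => rw [hm]
    rw [smul_eq_mul, ← sq, Ideal.span_le, Set.insert_subset_iff, Set.singleton_subset_iff]
    constructor
    · exact Submodule.mem_sup.2 ⟨U, Ideal.subset_span (by simp), -(U - u),
        Ideal.neg_mem_iff _ |>.2 hU0, by abel⟩
    · exact Submodule.mem_sup.2 ⟨V, Ideal.subset_span (by simp), -(V - v),
        Ideal.neg_mem_iff _ |>.2 hV0, by abel⟩
  · refine IsHausdorff.haus (I := M) inferInstance _ fun n => ?_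
    rw [SModEq.zero, smul_eq_mul, Ideal.mul_top]
    have e : U * V = (U - (seq n).1.1) * V + (seq n).1.1 * (V - (seq n).1.2) + (seq n).1.1 * (seq n).1.2 := by
      ring
    rw [e]
    exact (M ^ n).add_mem ((M ^ n).add_mem ((M ^ n).mul_mem_right _ (hU n)) ((M ^ n).mul_mem_left _ (hV n)))
      (Ideal.pow_le_pow_right (by omega) (seq n).2.2)

theorem pow_ne_zero_of_regular {u v t : C} (hm : maximalIdeal C = Ideal.span {u, v}) (huv : u * v = 0)
    (ht : t ∈ maximalIdeal C) (hreg : t ∈ C⁰) (hu : u ≠ 0) : ∀ i : ℕ, u ^ (i + 1) ≠ 0 := by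
  intro i
  induction i with
  | zero => simpa using hu
  | succ i ih =>
    intro h
    refine ih (mem_nonZeroDivisors_iff_right.1 hreg _ ?_)
    rw [hm, Ideal.mem_span_pair] at ht
    obtain ⟨a, b, rfl⟩ := ht
    linear_combination a * h + b * u ^ i * huv

end Completion

variable {k A : Type u} [Field k] [CommRing A] [IsLocalRing A] [IsNoetherianRing A] [Algebra k A]

theorem isPrincipal_of_span_pair {u v : A} (hm : maximalIdeal A = Ideal.span {u, v})
    (hu : u ∈ maximalIdeal A ^ 2) : (maximalIdeal A).IsPrincipal := by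
  refine ⟨v, le_antisymm (Submodule.le_of_le_smul_of_le_jacobson_bot (IsNoetherian.noetherian _)
    (jacobson_eq_maximalIdeal ⊥ bot_ne_top).ge ?_) ?_⟩
  · conv_lhs => rw [hm]
    rw [smul_eq_mul, ← sq, Ideal.span_le, Set.insert_subset_iff, Set.singleton_subset_iff]
    exact ⟨Submodule.mem_sup_right hu, Submodule.mem_sup_left (Submodule.mem_span_singleton_self v)⟩
  · rw [Submodule.span_singleton_le_iff_mem, hm]
    exact Ideal.subset_span (by simp)

/-- A rational point with a regular element in `𝔪` and `Fitt₁ = 𝔪` is an ordinary double point. -/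
theorem isOrdDoublePt_of_fitt1 [IsAlgClosed k] (hres : Function.Bijective (algebraMap k (ResidueField A)))
    [Module.Finite A Ω[A⁄k]] (hJ : fitt1 k A = maximalIdeal A) {t : A} (ht : t ∈ maximalIdeal A)
    (hreg : t ∈ A⁰) : Curv2.IsOrdDoublePt k A := by
  obtain ⟨u₀, v₀, hm, huv⟩ := exists_pair hres hJ
  let C := AdicCompletion (maximalIdeal A) A
  haveI : IsNoetherianRing C := LC.Canon.isNoetherianRing_completion (R := A)
  haveI : IsAdicComplete (maximalIdeal C) C := NodeLib.isAdicComplete_maximalIdeal A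
  haveI : Module.FaithfullyFlat A C := Module.FaithfullyFlat.of_flat_of_isLocalHom
  let ι : A →+* C := algebraMap A C
  have hmC : maximalIdeal C = (maximalIdeal A).map ι := AdicCompletion.maximalIdeal_eq_map
  obtain ⟨u, v, hmC', huv', hu, hv⟩ := exists_split (u := ι u₀) (v := ι v₀)
    (hmC.trans ((congrArg (Ideal.map ι) hm).trans (by rw [Ideal.map_span, Set.image_pair])))
    (by rw [← map_mul, hmC, ← Ideal.map_pow]; exact Ideal.mem_map_of_mem _ huv)
  have hnp : ¬ (maximalIdeal A).IsPrincipal := fun h => by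
    have := finrank_cotangentSpace_le_one_iff.2 h
    rw [finrank_eq_two hres hJ] at this
    omega
  have hne : ∀ (a a' : A) (b : C), maximalIdeal A = Ideal.span {a, a'} →
      b - ι a ∈ maximalIdeal C ^ 2 → b ≠ 0 := by
    rintro a a' b hm' hb rfl
    rw [zero_sub, Ideal.neg_mem_iff, hmC, ← Ideal.map_pow] at hb
    have : a ∈ maximalIdeal A ^ 2 := by
      rw [← Ideal.comap_map_eq_self_of_faithfullyFlat (B := C) (maximalIdeal A ^ 2)]
      exact hb
    exact hnp (isPrincipal_of_span_pair hm' this)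
  have hu0 : u ≠ 0 := hne u₀ v₀ u hm hu
  have hv0 : v ≠ 0 := hne v₀ u₀ v (hm.trans (by rw [Set.pair_comm])) hv
  have htC : ι t ∈ maximalIdeal C := hmC ▸ Ideal.mem_map_of_mem _ ht
  have hregC : ι t ∈ C⁰ := by
    have h : IsSMulRegular C t :=
      IsSMulRegular.of_flat (isRegular_iff_mem_nonZeroDivisors.2 hreg).left.isSMulRegular
    refine mem_nonZeroDivisors_iff_right.2 fun z hz => h ?_
    show t • z = t • (0 : C)
    rw [smul_zero, Algebra.smul_def, mul_comm]
    exact hz
  have hup := pow_ne_zero_of_regular hmC' huv' htC hregC hu0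
  have hvp := pow_ne_zero_of_regular (hmC'.trans (by rw [Set.pair_comm])) (by rw [mul_comm]; exact huv')
    htC hregC hv0
  have huM : u ∈ maximalIdeal C := hmC' ▸ Ideal.subset_span (by simp)
  have hvM : v ∈ maximalIdeal C := hmC' ▸ Ideal.subset_span (by simp)
  obtain ⟨φ, hφ⟩ := PSLib.exists_algHom (n := 2) (R := k) (maximalIdeal C) ![u, v] (by
    intro i; fin_cases i <;> simp [huM, hvM])
  have hφ0 : φ (MvPowerSeries.X 0) = u := hφ 0
  have hφ1 : φ (MvPowerSeries.X 1) = v := hφ 1
  have hconst : ∀ b : C, ∃ c : k, b - algebraMap k C c ∈ maximalIdeal C := by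
    intro b
    obtain ⟨a, ha⟩ := Submodule.Quotient.mk_surjective _ (b.1 1)
    obtain ⟨c, hc⟩ := exists_const hres a
    refine ⟨c, ?_⟩
    have h1 : b - ι a ∈ maximalIdeal C := by
      have h : b - ι a ∈ (AdicCompletion.eval (maximalIdeal A) A 1).ker := by
        rw [LinearMap.mem_ker, map_sub, sub_eq_zero]
        exact ha.symm
      rw [← AdicCompletion.pow_smul_top_eq_ker_eval (maximalIdeal A).fg_of_isNoetherianRing,
        Ideal.smul_top_eq_map, Submodule.restrictScalars_mem, pow_one] at h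
      rw [hmC]
      exact h
    have h2 : ι a - algebraMap k C c ∈ maximalIdeal C := by
      rw [IsScalarTower.algebraMap_apply k A C, ← map_sub, hmC]
      exact Ideal.mem_map_of_mem _ hc
    have := (maximalIdeal C).add_mem h1 h2
    rwa [sub_add_sub_cancel] at this
  have hIJ : (PSLib.vars 2 k).map (φ : MvPowerSeries (Fin 2) k →+* C) ≤ maximalIdeal C := by
    rw [PSLib.vars, Ideal.map_span, Ideal.span_le]
    rintro _ ⟨_, ⟨i, rfl⟩, rfl⟩
    fin_cases i
    · exact hφ0.symm ▸ huM
    · exact hφ1.symm ▸ hvM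
  have hsurj : Function.Surjective (φ : MvPowerSeries (Fin 2) k →+* C) := by
    refine PSLib.surjective_of_first_order _ (I := PSLib.vars 2 k) (J := maximalIdeal C)
      (IsNoetherian.noetherian _) (jacobson_eq_maximalIdeal ⊥ bot_ne_top).ge hIJ ?_ fun b => ?_
    · refine le_trans ?_ le_sup_left
      rw [hmC', Ideal.span_le, Set.insert_subset_iff, Set.singleton_subset_iff]
      exact ⟨hφ0 ▸ Ideal.mem_map_of_mem _ (Ideal.subset_span ⟨0, rfl⟩),
        hφ1 ▸ Ideal.mem_map_of_mem _ (Ideal.subset_span ⟨1, rfl⟩)⟩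
    · obtain ⟨c, hc⟩ := hconst b
      exact ⟨MvPowerSeries.C c, by
        have : φ (MvPowerSeries.C c) = algebraMap k C c := φ.commutes c
        show b - φ _ ∈ _
        rwa [this]⟩
  let ψ : Node k →+* C := Ideal.Quotient.lift (axes k) (φ : MvPowerSeries (Fin 2) k →+* C) fun a ha => by
    obtain ⟨c, rfl⟩ := Ideal.mem_span_singleton'.1 ha
    show φ _ = 0
    rw [map_mul, map_mul, hφ0, hφ1, huv', mul_zero]
  have hψx : ∀ j, ψ (xN k j) = ![u, v] j := fun j => hφ j
  have hψs : Function.Surjective ψ := fun b => by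
    obtain ⟨p, hp⟩ := hsurj b
    exact ⟨Ideal.Quotient.mk _ p, hp⟩
  have hψi : Function.Injective ψ := by
    refine (injective_iff_map_eq_zero ψ).2 fun r hr => eq_zero_of_branches fun j => ?_
    by_contra hne'
    obtain ⟨ω, hω⟩ := exists_lift (fun _ : Fin 2 => (branch k j r).divXPowOrder) rfl
    have hωu : IsUnit ω := by
      refine isUnit_of_constantCoeff_ne (j := j) ?_
      rw [hω, ← PowerSeries.coeff_zero_eq_constantCoeff_apply, PowerSeries.coeff_divXPowOrder, zero_add]
      exact PowerSeries.coeff_order hne'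
    set i := (branch k j r).order.toNat with hi
    have e : xN k j * r = xN k j ^ (i + 1) * ω := eq_of_branches fun l => by
      rw [map_mul, map_mul, map_pow, branch_xN]
      split_ifs with h
      · subst h
        rw [hω, pow_succ', mul_assoc, hi, PowerSeries.X_pow_order_mul_divXPowOrder]
      · rw [zero_mul, zero_pow (Nat.succ_ne_zero _), zero_mul]
    have h0 : ![u, v] j ^ (i + 1) = 0 := by
      have h := congrArg ψ e
      rw [map_mul, map_mul, map_pow, hr, mul_zero, hψx] at h
      exact (hωu.map ψ).mul_left_eq_zero.1 h.symm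
    fin_cases j
    · exact hup i h0
    · exact hvp i h0
  let E := RingEquiv.ofBijective ψ ⟨hψi, hψs⟩
  refine ⟨E.symm, fun c => ?_⟩
  rw [RingEquiv.symm_apply_eq]
  show _ = φ (MvPowerSeries.C c)
  rw [show φ (MvPowerSeries.C c) = algebraMap k C c from φ.commutes c]
  exact (IsScalarTower.algebraMap_apply k A C c).symm

/-- At an ordinary double point `Fitt₁ = 𝔪`, the ring is reduced, and `𝔪` has two generators `u`, `v`
with `u + v` regular and `u * v ∈ 𝔪³`. -/
theorem ordDoublePt_props (hres : Function.Bijective (algebraMap k (ResidueField A)))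
    [Module.Finite A Ω[A⁄k]] (h : Curv2.IsOrdDoublePt k A) :
    fitt1 k A = maximalIdeal A ∧ IsReduced A ∧
      ∃ u v : A, maximalIdeal A = Ideal.span {u, v} ∧ u * v ∈ maximalIdeal A ^ 3 ∧ u + v ∈ A⁰ := by
  obtain ⟨e, he⟩ := h
  have hι := isNodeMap_of_completion (K := k) e he
  set ι : A →+* Node k := e.toRingHom.comp (algebraMap A (AdicCompletion (maximalIdeal A) A)) with hιdef
  haveI : IsLocalRing (Node k) := e.isLocalRing
  have hM : maximalIdeal (Node k) = (maximalIdeal A).map ι := by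
    rw [hιdef, ← Ideal.map_map, ← AdicCompletion.maximalIdeal_eq_map]
    exact (eq_maximalIdeal (Ideal.map_isMaximal_of_equiv e)).symm
  have hclosed : ∀ (n : ℕ) (a : A), ι a ∈ maximalIdeal (Node k) ^ n → a ∈ maximalIdeal A ^ n := fun n a ha => by
    rw [hM, ← Ideal.map_pow] at ha
    exact hι.closed _ a ha
  have happ : ∀ (r : Node k) (n : ℕ), ∃ a : A, r - ι a ∈ maximalIdeal (Node k) ^ n := fun r n => by
    obtain ⟨a, ha⟩ := hι.approx r n
    exact ⟨a, Ideal.pow_right_mono (Ideal.span_le.2 fun x hx => mem_maximalIdeal_node.2 hx) n ha⟩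
  have hxM : ∀ j, xN k j ∈ maximalIdeal (Node k) := fun j => mem_maximalIdeal_node.2 fun i => by
    rw [branch_xN]; split_ifs <;> simp
  choose w hw using fun j => happ (xN k j) 2
  have hwm : ∀ j, w j ∈ maximalIdeal A := fun j => by
    have h1 := (maximalIdeal (Node k)).sub_mem (hxM j) (Ideal.pow_le_self two_ne_zero (hw j))
    rw [sub_sub_cancel] at h1
    simpa using hclosed 1 (w j) (by simpa using h1)
  have hm : maximalIdeal A = Ideal.span {w 0, w 1} := by
    refine le_antisymm (Submodule.le_of_le_smul_of_le_jacobson_bot (IsNoetherian.noetherian _)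
      (jacobson_eq_maximalIdeal ⊥ bot_ne_top).ge fun a ha => ?_)
      (Ideal.span_le.2 (Set.insert_subset (hwm 0) (Set.singleton_subset_iff.2 (hwm 1))))
    rw [smul_eq_mul, ← sq]
    obtain ⟨p, q, hpq⟩ := exists_coords (hM ▸ Ideal.mem_map_of_mem ι ha)
    obtain ⟨p', hp⟩ := happ p 1
    obtain ⟨q', hq⟩ := happ q 1
    rw [pow_one] at hp hq
    refine Submodule.mem_sup.2 ⟨w 0 * p' + w 1 * q',
      Ideal.mem_span_pair.2 ⟨p', q', by ring⟩, a - (w 0 * p' + w 1 * q'), hclosed 2 _ ?_, by abel⟩
    have e' : ι (a - (w 0 * p' + w 1 * q')) = xN k 0 * (p - ι p') + xN k 1 * (q - ι q') +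
        ((xN k 0 - ι (w 0)) * ι p' + (xN k 1 - ι (w 1)) * ι q') := by
      rw [map_sub, map_add, map_mul, map_mul, hpq]; ring
    rw [e']
    refine Ideal.add_mem _ (Ideal.add_mem _ ?_ ?_)
      (Ideal.add_mem _ (Ideal.mul_mem_right _ _ (hw 0)) (Ideal.mul_mem_right _ _ (hw 1)))
    · rw [sq]; exact Ideal.mul_mem_mul (hxM 0) hp
    · rw [sq]; exact Ideal.mul_mem_mul (hxM 1) hq
  have hx01 : xN k 0 * xN k 1 = 0 := eq_zero_of_branches fun j => by
    rw [map_mul, branch_xN, branch_xN]; fin_cases j <;> simp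
  have huv : w 0 * w 1 ∈ maximalIdeal A ^ 3 := by
    refine hclosed 3 _ ?_
    have e' : ι (w 0 * w 1) = (xN k 0 - ι (w 0)) * (xN k 1 - ι (w 1)) -
        xN k 0 * (xN k 1 - ι (w 1)) - xN k 1 * (xN k 0 - ι (w 0)) := by
      rw [map_mul]; linear_combination hx01
    rw [e']
    refine Ideal.sub_mem _ (Ideal.sub_mem _ ?_ ?_) ?_
    · exact Ideal.pow_le_pow_right (show 3 ≤ 2 + 2 by omega) (pow_add (maximalIdeal (Node k)) 2 2 ▸ Ideal.mul_mem_mul (hw 0) (hw 1))
    · rw [pow_succ']; exact Ideal.mul_mem_mul (hxM 0) (hw 1)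
    · rw [pow_succ']; exact Ideal.mul_mem_mul (hxM 1) (hw 0)
  have hb1 : ∀ j i, PowerSeries.coeff 1 (branch k i (ι (w j))) = if j = i then 1 else 0 := fun j i => by
    have h2 := PowerSeries.X_pow_dvd_iff.1 (dvd_of_mem_sq (hw j) i) 1 (by norm_num)
    rw [map_sub, map_sub, branch_xN, sub_eq_zero] at h2
    rw [← h2]
    split_ifs <;> simp
  have hreg : w 0 + w 1 ∈ A⁰ := mem_nonZeroDivisors_of_branch hι fun i h0 => by
    have := congrArg (PowerSeries.coeff 1) h0
    rw [map_add, map_add, map_add, hb1, hb1, map_zero] at this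
    fin_cases i <;> simp at this
  have hnp : ¬ finrank (ResidueField A) (CotangentSpace A) ≤ 1 := fun hle => by
    obtain ⟨g, hg⟩ := (finrank_cotangentSpace_le_one_iff.1 hle)
    have hg' : maximalIdeal (Node k) = Ideal.span {ι g} := by
      rw [hM, hg, Submodule.span, ← Submodule.span, Ideal.map_span, Set.image_singleton]
    obtain ⟨p, hp⟩ := Ideal.mem_span_singleton'.1 (hg' ▸ hxM 0)
    obtain ⟨q, hq⟩ := Ideal.mem_span_singleton'.1 (hg' ▸ hxM 1)
    have hgc := mem_maximalIdeal_node.1 (hg' ▸ Ideal.mem_span_singleton_self _ : ι g ∈ maximalIdeal (Node k))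
    have e11 := congrArg (branch k 1) hq
    have e10 := congrArg (branch k 1) hp
    have e00 := congrArg (branch k 0) hp
    rw [map_mul, branch_xN] at e11 e10 e00
    simp only [↓reduceIte, show ((0 : Fin 2) = 1) ↔ False by decide] at e11 e10 e00
    have hg1 : branch k 1 (ι g) ≠ 0 := fun h => by
      rw [h, mul_zero] at e11
      exact PowerSeries.X_ne_zero e11.symm
    have hp1 : branch k 1 p = 0 := (mul_eq_zero.1 e10).resolve_right hg1
    have hp0 : PowerSeries.constantCoeff (branch k 0 p) = 0 := by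
      rw [constantCoeff_branch p 0 1, hp1, map_zero]
    have := congrArg (PowerSeries.coeff 1) e00
    rw [PowerSeries.coeff_mul, PowerSeries.coeff_one_X] at this
    rw [Finset.Nat.sum_antidiagonal_eq_sum_range_succ (fun a b => PowerSeries.coeff a (branch k 0 p) *
      PowerSeries.coeff b (branch k 0 (ι g))), Finset.sum_range_succ, Finset.sum_range_one] at this
    simp [hp0, hgc 0] at this
  refine ⟨?_, isReduced_of_injective ι (ι_injective hι), w 0, w 1, hm, huv, hreg⟩
  have hJm : fitt1 k A ≤ maximalIdeal A := le_maximalIdeal fun ht => hnp ((fitt1_eq_top_iff hres).1 ht)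
  refine le_antisymm hJm ?_
  have hx : Ideal.span (Set.range ![w 0, w 1]) = maximalIdeal A := by
    rw [hm]; simp [Set.pair_comm]
  have hgen := span_D_eq_top hres _ hx
  have hD : KaehlerDifferential.D k A (w 0 * w 1) ∈ maximalIdeal A ^ 2 •
      Submodule.span A (Set.range fun i => KaehlerDifferential.D k A (![w 0, w 1] i)) := by
    rw [hgen]; exact derivation_mem_pow_smul _ _ 2 huv
  rw [Submodule.mem_ideal_smul_span_iff_exists_sum] at hD
  obtain ⟨a, ha, hsum⟩ := hD
  rw [Finsupp.sum_fintype _ _ (by simp), Fin.sum_univ_two, Derivation.leibniz] at hsum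
  let z : Fin 2 → A := ![w 1 - a 0, w 0 - a 1]
  have hz : z ∈ FittX.rel (R := A) (fun i => KaehlerDifferential.D k A (![w 0, w 1] i)) := by
    rw [FittX.mem_rel, Fin.sum_univ_two]
    simp only [z, Matrix.cons_val_zero, Matrix.cons_val_one, sub_smul] at hsum ⊢
    rw [sub_add_sub_comm, hsum, add_comm (w 1 • _), sub_self]
  have hentry : ∀ i, z i ∈ fitt1 k A := fun i => by
    rw [fitt1, FittX.ideal_eq_minors _ hgen, FittX.minors_rel_eq_span]
    refine Ideal.subset_span ⟨fun _ => z, fun _ => i, fun _ => hz, ?_⟩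
    show z i = (Matrix.of fun _ _ => z i : Matrix (Fin 1) (Fin 1) A).det
    rw [Matrix.det_fin_one, Matrix.of_apply]
  refine Submodule.le_of_le_smul_of_le_jacobson_bot (IsNoetherian.noetherian _)
    (jacobson_eq_maximalIdeal ⊥ bot_ne_top).ge ?_
  rw [smul_eq_mul, ← sq]
  conv_lhs => rw [hm]
  rw [Ideal.span_le, Set.insert_subset_iff, Set.singleton_subset_iff]
  exact ⟨Submodule.mem_sup.2 ⟨_, hentry 1, _, ha 1, by simp [z]⟩,
    Submodule.mem_sup.2 ⟨_, hentry 0, _, ha 0, by simp [z]⟩⟩

/-- An ordinary double point has dimension one. -/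
theorem ringKrullDim_of_pair {u v : A} (hm : maximalIdeal A = Ideal.span {u, v})
    (huv : u * v ∈ maximalIdeal A ^ 3) (hreg : u + v ∈ A⁰) : ringKrullDim A = 1 := by
  set m := maximalIdeal A with hmdef
  have hmem : u + v ∈ m := hm ▸ Ideal.add_mem _ (Ideal.subset_span (by simp)) (Ideal.subset_span (by simp))
  have hsq : m ^ 2 ≤ Ideal.span {u + v} := by
    refine Submodule.le_of_le_smul_of_le_jacobson_bot (IsNoetherian.noetherian _)
      (jacobson_eq_maximalIdeal ⊥ bot_ne_top).ge ?_
    rw [smul_eq_mul, ← pow_succ']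
    conv_lhs => rw [hm, sq]
    rw [Ideal.span_mul_span, Ideal.span_le]
    intro x hx
    rw [Set.mem_mul] at hx
    obtain ⟨p, hp, q, hq, rfl⟩ := hx
    rcases hp with hp | hp <;> rcases hq with hq | hq <;> rw [hp, hq]
    · exact Submodule.mem_sup.2 ⟨u * (u + v), Ideal.mem_span_singleton'.2 ⟨u, rfl⟩, -(u * v),
        Ideal.neg_mem_iff _ |>.2 huv, by ring⟩
    · exact Submodule.mem_sup_right huv
    · exact Submodule.mem_sup_right (mul_comm u v ▸ huv)
    · exact Submodule.mem_sup.2 ⟨v * (u + v), Ideal.mem_span_singleton'.2 ⟨v, rfl⟩, -(u * v),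
        Ideal.neg_mem_iff _ |>.2 huv, by ring⟩
  have hmin : m ∈ (Ideal.span {u + v}).minimalPrimes := by
    refine ⟨⟨inferInstance, (Ideal.span_singleton_le_iff_mem _).2 hmem⟩, fun q ⟨hq, hle⟩ _ => ?_⟩
    exact (hq.pow_le_iff two_ne_zero).1 (hsq.trans hle)
  haveI : (Ideal.span {u + v}).IsPrincipal := ⟨u + v, rfl⟩
  have hle : m.height ≤ 1 := Ideal.height_le_one_of_isPrincipal_of_mem_minimalPrimes _ _ hmin
  rw [← maximalIdeal_height_eq_ringKrullDim]
  have hge : m.height ≠ 0 := fun h0 => by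
    have : m ∈ minimalPrimes A := by
      rw [← Ideal.height_eq_zero_iff]; exact h0
    exact Set.disjoint_left.1 (Ideal.disjoint_nonZeroDivisors_of_mem_minimalPrimes this) hmem hreg
  exact_mod_cast le_antisymm hle (Order.one_le_iff_ne_zero.2 hge)

end Groth.Agent.NodalLib
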