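import Groth.Agent.NodalLib.Field
import Groth.Agent.FtPts6.Basic
import Groth.Agent.FibDim.RelDim
import Groth.Agent.GeomConn5.Point
import Mathlib.RingTheory.Unramified.Finite

/-!
# Nodes over an arbitrary field: `IsNode` is the nodal criterion away from `Fitt₁ = 1`
-/

set_option autoImplicit false
set_option linter.unusedSectionVars false
set_option linter.style.haveILetI false
set_option backward.isDefEq.respectTransparency false
set_option backward.isDefEq.respectTransparency.types false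

universe u

open CategoryTheory CategoryTheory.Limits AlgebraicGeometry

namespace Groth.Agent.NodalLib

variable {k : Type u} [Field k] {X : Scheme.{u}} [X.Over (Spec (CommRingCat.of k))]
  [LocallyOfFiniteType (X ↘ Spec (CommRingCat.of k))]

/-- Points over a closed point in an extension of the field are closed. -/
theorem isClosed_of_closed_image (K : Type u) [Field K] [Algebra k K]
    {x : X} (hx : IsClosed ({x} : Set X)) {z : Curv2.bc k X K} (hz : Curv2.bcFst k X K z = x) :
    IsClosed ({z} : Set (Curv2.bc k X K)) := by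
  let ι := X.fromSpecResidueField x
  haveI : LocallyOfFiniteType ι := by
    obtain ⟨U, hU, hxU, -⟩ := exists_isAffineOpen_mem_and_subset (x := x) (U := ⊤) trivial
    refine FtPts6.pts_iff.2 ⟨U, hU, hxU, ?_⟩
    have : ({⟨x, hxU⟩} : Set U) = Subtype.val ⁻¹' {x} := Set.ext fun y => Subtype.ext_iff
    rw [this]
    exact hx.preimage continuous_subtype_val
  let p := pullback.snd ι (Curv2.bcFst k X K)
  have hrange : Set.range p = Curv2.bcFst k X K ⁻¹' {x} := by
    rw [Scheme.Pullback.range_snd, Scheme.range_fromSpecResidueField]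
  haveI : IsPreimmersion p := MorphismProperty.pullback_snd _ _ inferInstance
  haveI : IsClosedImmersion p :=
    IsClosedImmersion.of_isPreimmersion p (hrange ▸ hx.preimage (Scheme.Hom.continuous _))
  haveI : IsLocallyArtinian (Spec (X.residueField x)) := Scheme.isLocallyArtinianScheme_Spec.mpr inferInstance
  haveI : Subsingleton ↥(Spec (X.residueField x)) := inferInstanceAs (Subsingleton (PrimeSpectrum (X.residueField x)))
  haveI : LocallyOfFiniteType (ι ≫ X ↘ Spec (CommRingCat.of k)) := inferInstance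
  haveI : LocallyQuasiFinite (ι ≫ X ↘ Spec (CommRingCat.of k)) :=
    LocallyQuasiFinite.of_finite_preimage_singleton _ fun _ => Set.toFinite _
  haveI : IsLocallyArtinian (Spec (CommRingCat.of K)) := Scheme.isLocallyArtinianScheme_Spec.mpr inferInstance
  let e := pullbackRightPullbackFstIso (X ↘ Spec (CommRingCat.of k)) (Spec.map (CommRingCat.ofHom (algebraMap k K))) ι
  haveI : LocallyQuasiFinite (pullback.snd (ι ≫ X ↘ Spec (CommRingCat.of k))
    (Spec.map (CommRingCat.ofHom (algebraMap k K)))) := MorphismProperty.pullback_snd _ _ inferInstance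
  haveI : IsLocallyArtinian (pullback (ι ≫ X ↘ Spec (CommRingCat.of k)) (Spec.map (CommRingCat.ofHom (algebraMap k K)))) :=
    .of_locallyQuasiFinite (pullback.snd _ _)
  haveI : DiscreteTopology ↥(pullback ι (Curv2.bcFst k X K)) := e.hom.homeomorph.isEmbedding.discreteTopology
  obtain ⟨a, rfl⟩ := hrange.ge (show z ∈ Curv2.bcFst k X K ⁻¹' {x} from hz)
  rw [← Set.image_singleton]
  exact p.isClosedEmbedding.isClosedMap _ (isClosed_discrete _)

theorem locallyOfFiniteType_bcSnd (K : Type u) [Field K] [Algebra k K] :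
    LocallyOfFiniteType (Curv2.bcSnd k X K) :=
  MorphismProperty.pullback_snd _ _ ‹_›

theorem surjective_bcFst (K : Type u) [Field K] [Algebra k K] :
    Function.Surjective (Curv2.bcFst k X K) := by
  haveI : Surjective (Spec.map (CommRingCat.ofHom (algebraMap k K))) :=
    ⟨fun x => ⟨IsLocalRing.closedPoint K, Subsingleton.elim (α := PrimeSpectrum k) _ _⟩⟩
  haveI : Surjective (Curv2.bcFst k X K) := MorphismProperty.pullback_fst _ _ inferInstance
  exact (Curv2.bcFst k X K).surjective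

section bc

variable (K : Type u) [Field K] [Algebra k K] (y : Curv2.bc k X K)

theorem isPullback_bc : IsPullback (Curv2.bcFst k X K) (Curv2.bcSnd k X K) (X ↘ Spec (CommRingCat.of k))
    (Spec.map (CommRingCat.ofHom (algebraMap k K))) := IsPullback.of_hasPullback _ _

theorem qPt_bc : QPt (Curv2.bcSnd k X K) y ↔ QPt (X ↘ Spec (CommRingCat.of k)) (Curv2.bcFst k X K y) :=
  ptProp_qPt.baseChange (isPullback_bc K) y

theorem jTop_bc : JTop (Curv2.bcSnd k X K) y ↔ JTop (X ↘ Spec (CommRingCat.of k)) (Curv2.bcFst k X K y) :=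
  ptProp_jTop.baseChange (isPullback_bc K) y

theorem smooth_bc : y ∈ (Curv2.bcSnd k X K).smoothLocus ↔
    Curv2.bcFst k X K y ∈ (X ↘ Spec (CommRingCat.of k)).smoothLocus := by
  rw [← CurvOpenLib.Inst.loc_smooth_iff, ← CurvOpenLib.Inst.loc_smooth_iff]
  exact CurvOpenLib.Inst.ptProp_smooth.baseChange (isPullback_bc K) y

theorem fibreDim_bc : FlatMor.fibreDimAt (Curv2.bcSnd k X K) y =
    FlatMor.fibreDimAt (X ↘ Spec (CommRingCat.of k)) (Curv2.bcFst k X K y) :=
  FibDim.fibreDimAt_baseChange (isPullback_bc K) y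

end bc

theorem isClosed_of_qPt_not_jTop {x : X} (h : QPt (X ↘ Spec (CommRingCat.of k)) x)
    (hJ : ¬ JTop (X ↘ Spec (CommRingCat.of k)) x) : IsClosed ({x} : Set X) := by
  letI := Curv2.stalkAlgebra k X x
  obtain ⟨hfin, hess, hTi, hJi⟩ := field_iff k X x
  haveI := hfin
  haveI := hess
  have hT := hTi.1 h.2
  rw [hJi] at hJ
  haveI : Algebra.EssFiniteType k ((X.presheaf.stalk x) ⧸ (fitt1 k (X.presheaf.stalk x))) := Algebra.EssFiniteType.comp k (X.presheaf.stalk x) _
  haveI : Algebra.FormallyUnramified k ((X.presheaf.stalk x) ⧸ (fitt1 k (X.presheaf.stalk x))) := by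
    refine ⟨⟨fun a b => ?_⟩⟩
    suffices h0 : ∀ w, w = (0 : Ω[((X.presheaf.stalk x) ⧸ (fitt1 k (X.presheaf.stalk x)))⁄k]) from (h0 a).trans (h0 b).symm
    intro w
    let π := KaehlerDifferential.map k k (X.presheaf.stalk x) ((X.presheaf.stalk x) ⧸ (fitt1 k (X.presheaf.stalk x)))
    obtain ⟨w, rfl⟩ := KaehlerDifferential.map_surjective_of_surjective k k (X.presheaf.stalk x) ((X.presheaf.stalk x) ⧸ (fitt1 k (X.presheaf.stalk x)))
      Ideal.Quotient.mk_surjective w
    have hle : sat k (X.presheaf.stalk x) ≤ LinearMap.ker π := by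
      refine sup_le (Submodule.span_le.2 ?_) (Submodule.smul_le.2 fun j hj v _ => ?_)
      · rintro _ ⟨j, hj, rfl⟩
        rw [SetLike.mem_coe, LinearMap.mem_ker, KaehlerDifferential.map_D, Ideal.Quotient.algebraMap_eq,
          Ideal.Quotient.eq_zero_iff_mem.2 hj, map_zero]
      · rw [LinearMap.mem_ker, map_smul, ← algebraMap_smul ((X.presheaf.stalk x) ⧸ (fitt1 k (X.presheaf.stalk x))) j, Ideal.Quotient.algebraMap_eq,
          Ideal.Quotient.eq_zero_iff_mem.2 hj, zero_smul]
    exact hle ((show sat k (X.presheaf.stalk x) = ⊤ from hT) ▸ trivial)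
  haveI : Module.Finite k ((X.presheaf.stalk x) ⧸ (fitt1 k (X.presheaf.stalk x))) := Algebra.FormallyUnramified.finite_of_free k _
  have hfinres : (Curv2.resMap k X x).Finite := by
    let π : ((X.presheaf.stalk x) ⧸ (fitt1 k (X.presheaf.stalk x))) →ₐ[k] IsLocalRing.ResidueField (X.presheaf.stalk x) :=
      Ideal.Quotient.liftₐ (fitt1 k (X.presheaf.stalk x)) (IsScalarTower.toAlgHom k (X.presheaf.stalk x) (IsLocalRing.ResidueField (X.presheaf.stalk x)))
        (fun a ha => (IsLocalRing.residue_eq_zero_iff a).2 (IsLocalRing.le_maximalIdeal hJ ha))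
    have hπ : Function.Surjective π := fun b => by
      obtain ⟨a, rfl⟩ := IsLocalRing.residue_surjective b
      exact ⟨Ideal.Quotient.mk (fitt1 k (X.presheaf.stalk x)) a, rfl⟩
    have h' : Module.Finite k (IsLocalRing.ResidueField (X.presheaf.stalk x)) :=
      Module.Finite.of_surjective π.toLinearMap hπ
    exact RingHom.finite_algebraMap.2 h'
  haveI : JacobsonSpace X := LocallyOfFiniteType.jacobsonSpace (X ↘ Spec (CommRingCat.of k))
  rw [isClosed_singleton_iff_locallyOfFiniteType]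
  haveI : LocallyOfFiniteType (X.fromSpecResidueField x ≫ (X ↘ Spec (CommRingCat.of k))) := by
    have h1 : LocallyOfFiniteType (Spec.map (CommRingCat.ofHom (Curv2.resMap k X x))) :=
      (HasRingHomProperty.Spec_iff (P := @LocallyOfFiniteType)).2
        (RingHom.FiniteType.of_finite hfinres)
    rwa [← GeomConn5.spec_resMap] at h1
  exact locallyOfFiniteType_of_comp (X.fromSpecResidueField x) (X ↘ Spec (CommRingCat.of k))

/-- A node is the same as a singular point satisfying the criterion. -/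
theorem isNode_iff {x : X} :
    Curv2.IsNode k X x ↔
      QPt (X ↘ Spec (CommRingCat.of k)) x ∧ ¬ JTop (X ↘ Spec (CommRingCat.of k)) x := by
  letI : (Curv2.bc k X (AlgebraicClosure k)).Over (Spec (CommRingCat.of (AlgebraicClosure k))) :=
    ⟨Curv2.bcSnd k X (AlgebraicClosure k)⟩
  haveI : LocallyOfFiniteType (Curv2.bc k X (AlgebraicClosure k) ↘ Spec (CommRingCat.of (AlgebraicClosure k))) :=
    locallyOfFiniteType_bcSnd (AlgebraicClosure k)
  constructor
  · rintro ⟨hx, xb, rfl, h⟩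
    have hxb := isClosed_of_closed_image (AlgebraicClosure k) hx (z := xb) rfl
    have h' := qPt_of_odp (AlgebraicClosure k) (Curv2.bc k X (AlgebraicClosure k)) hxb h
    exact ⟨(qPt_bc _ xb).1 h'.1, fun hj => h'.2 ((jTop_bc _ xb).2 hj)⟩
  · rintro ⟨hq, hj⟩
    obtain ⟨xb, rfl⟩ := surjective_bcFst (k := k) (X := X) (AlgebraicClosure k) x
    refine ⟨isClosed_of_qPt_not_jTop hq hj, xb, rfl, ?_⟩
    have hxb := isClosed_of_closed_image (AlgebraicClosure k) (isClosed_of_qPt_not_jTop hq hj) (z := xb) rfl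
    rcases smooth_or_odp_of_qPt (AlgebraicClosure k) (Curv2.bc k X (AlgebraicClosure k)) hxb
      ((qPt_bc _ xb).2 hq) with ⟨-, h⟩ | ⟨h, -⟩
    · exact absurd ((jTop_bc _ xb).1 h) hj
    · exact h

/-- Every point over a node is an ordinary double point. -/
theorem isOrdDoublePt_of_isNode {x : X} (hx : Curv2.IsNode k X x) {xb : Curv2.bc k X (AlgebraicClosure k)}
    (hxb : Curv2.bcFst k X (AlgebraicClosure k) xb = x) :
    @Curv2.IsOrdDoublePt (AlgebraicClosure k) _ ((Curv2.bc k X (AlgebraicClosure k)).presheaf.stalk xb) _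
      (@Curv2.stalkAlgebra (AlgebraicClosure k) _ (Curv2.bc k X (AlgebraicClosure k))
        ⟨Curv2.bcSnd k X (AlgebraicClosure k)⟩ xb) _ := by
  letI : (Curv2.bc k X (AlgebraicClosure k)).Over (Spec (CommRingCat.of (AlgebraicClosure k))) :=
    ⟨Curv2.bcSnd k X (AlgebraicClosure k)⟩
  haveI : LocallyOfFiniteType (Curv2.bc k X (AlgebraicClosure k) ↘ Spec (CommRingCat.of (AlgebraicClosure k))) :=
    locallyOfFiniteType_bcSnd (AlgebraicClosure k)
  subst hxb
  have hc := isClosed_of_closed_image (AlgebraicClosure k) hx.1 (z := xb) rfl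
  obtain ⟨hq, hj⟩ := isNode_iff.1 hx
  rcases smooth_or_odp_of_qPt (AlgebraicClosure k) (Curv2.bc k X (AlgebraicClosure k)) hc
    ((qPt_bc _ xb).2 hq) with ⟨-, h⟩ | ⟨h, -⟩
  · exact absurd ((jTop_bc _ xb).1 h) hj
  · exact h

theorem smooth_of_qPt_jTop {x : X} (hq : QPt (X ↘ Spec (CommRingCat.of k)) x)
    (hj : JTop (X ↘ Spec (CommRingCat.of k)) x) : x ∈ (X ↘ Spec (CommRingCat.of k)).smoothLocus := by
  letI : (Curv2.bc k X (AlgebraicClosure k)).Over (Spec (CommRingCat.of (AlgebraicClosure k))) :=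
    ⟨Curv2.bcSnd k X (AlgebraicClosure k)⟩
  haveI : LocallyOfFiniteType (Curv2.bc k X (AlgebraicClosure k) ↘ Spec (CommRingCat.of (AlgebraicClosure k))) :=
    locallyOfFiniteType_bcSnd (AlgebraicClosure k)
  haveI : JacobsonSpace X := LocallyOfFiniteType.jacobsonSpace (X ↘ Spec (CommRingCat.of k))
  have ho : IsOpen {z : X | QPt (X ↘ Spec (CommRingCat.of k)) z ∧ JTop (X ↘ Spec (CommRingCat.of k)) z} :=
    (ptProp_qPt.isOpen _).inter (ptProp_jTop.isOpen _)
  obtain ⟨x₀, ⟨hx₀, hq₀, hj₀⟩, hc₀⟩ := nonempty_inter_closedPoints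
    (Z := closure {x} ∩ {z : X | QPt (X ↘ Spec (CommRingCat.of k)) z ∧ JTop (X ↘ Spec (CommRingCat.of k)) z})
    ⟨x, subset_closure rfl, hq, hj⟩ (isClosed_closure.isLocallyClosed.inter ho.isLocallyClosed)
  have hsp : x ⤳ x₀ := specializes_iff_mem_closure.2 hx₀
  refine hsp.mem_open (X ↘ Spec (CommRingCat.of k)).smoothLocus.2 ?_
  obtain ⟨xb, rfl⟩ := surjective_bcFst (k := k) (X := X) (AlgebraicClosure k) x₀
  have hxb := isClosed_of_closed_image (AlgebraicClosure k) hc₀ (z := xb) rfl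
  rcases smooth_or_odp_of_qPt (AlgebraicClosure k) (Curv2.bc k X (AlgebraicClosure k)) hxb
    ((qPt_bc _ xb).2 hq₀) with ⟨h, -⟩ | ⟨-, h⟩
  · exact (smooth_bc _ xb).1 h
  · exact absurd ((jTop_bc _ xb).2 hj₀) h

theorem qPt_of_smooth_closed {x : X} (hx : IsClosed ({x} : Set X))
    (hs : x ∈ (X ↘ Spec (CommRingCat.of k)).smoothLocus)
    (hd : FlatMor.fibreDimAt (X ↘ Spec (CommRingCat.of k)) x = ((1 : ℕ) : WithBot ℕ∞)) :
    QPt (X ↘ Spec (CommRingCat.of k)) x ∧ JTop (X ↘ Spec (CommRingCat.of k)) x := by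
  letI : (Curv2.bc k X (AlgebraicClosure k)).Over (Spec (CommRingCat.of (AlgebraicClosure k))) :=
    ⟨Curv2.bcSnd k X (AlgebraicClosure k)⟩
  haveI : LocallyOfFiniteType (Curv2.bc k X (AlgebraicClosure k) ↘ Spec (CommRingCat.of (AlgebraicClosure k))) :=
    locallyOfFiniteType_bcSnd (AlgebraicClosure k)
  obtain ⟨xb, rfl⟩ := surjective_bcFst (k := k) (X := X) (AlgebraicClosure k) x
  have h := qPt_of_smooth (AlgebraicClosure k) (Curv2.bc k X (AlgebraicClosure k))
    (isClosed_of_closed_image (AlgebraicClosure k) hx (z := xb) rfl)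
    ((smooth_bc _ xb).2 hs) ((fibreDim_bc _ xb).trans hd)
  exact ⟨(qPt_bc _ xb).1 h.1, (jTop_bc _ xb).1 h.2⟩

/-- The criterion is: smooth of dimension one, or a node. -/
theorem qPt_iff_of_closed {x : X} (hx : IsClosed ({x} : Set X)) :
    QPt (X ↘ Spec (CommRingCat.of k)) x ↔
      (x ∈ (X ↘ Spec (CommRingCat.of k)).smoothLocus ∧
        FlatMor.fibreDimAt (X ↘ Spec (CommRingCat.of k)) x = ((1 : ℕ) : WithBot ℕ∞)) ∨ Curv2.IsNode k X x := by
  constructor
  · intro h
    by_cases hj : JTop (X ↘ Spec (CommRingCat.of k)) x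
    · exact Or.inl ⟨smooth_of_qPt_jTop h hj, h.1.2⟩
    · exact Or.inr (isNode_iff.2 ⟨h, hj⟩)
  · rintro (⟨hs, hd⟩ | h)
    · exact (qPt_of_smooth_closed hx hs hd).1
    · exact (isNode_iff.1 h).1

theorem atWorstNodal_of_forall_qPt (h : ∀ x : X, QPt (X ↘ Spec (CommRingCat.of k)) x) :
    Curv2.AtWorstNodal k X := fun x hx => by
  rcases (qPt_iff_of_closed hx).1 (h x) with ⟨hs, -⟩ | hn
  · exact Or.inl ((CurvOpenLib.Inst.loc_smooth_iff _ x).2 hs)
  · exact Or.inr hn

theorem forall_qPt_of_atWorstNodal (hdim : ∀ x : X, IsClosed ({x} : Set X) →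
      FlatMor.fibreDimAt (X ↘ Spec (CommRingCat.of k)) x = ((1 : ℕ) : WithBot ℕ∞))
    (h : Curv2.AtWorstNodal k X) : ∀ x : X, QPt (X ↘ Spec (CommRingCat.of k)) x := by
  haveI : JacobsonSpace X := LocallyOfFiniteType.jacobsonSpace (X ↘ Spec (CommRingCat.of k))
  have ho := ptProp_qPt.isOpen (X ↘ Spec (CommRingCat.of k))
  intro x
  by_contra hx
  obtain ⟨x₀, hx₀, hc⟩ := nonempty_inter_closedPoints
    (Z := {z : X | QPt (X ↘ Spec (CommRingCat.of k)) z}ᶜ) ⟨x, hx⟩ ho.isClosed_compl.isLocallyClosed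
  refine hx₀ ((qPt_iff_of_closed hc).2 ?_)
  rcases h x₀ hc with hs | hn
  · exact Or.inl ⟨(CurvOpenLib.Inst.loc_smooth_iff _ x₀).1 hs, hdim x₀ hc⟩
  · exact Or.inr hn

end Groth.Agent.NodalLib
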