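import Groth.Agent.NodalLib.Crit

/-!
# Squares along which differentials base change
-/

set_option autoImplicit false
set_option linter.unusedSectionVars false
set_option linter.style.haveILetI false

universe u

open TensorProduct

attribute [local instance] SMulCommClass.of_commMonoid

namespace Groth.Agent.NodalLib.IsBC

theorem of_formallyEtale (R A A' : Type u) [CommRing R] [CommRing A] [CommRing A'] [Algebra R A]
    [Algebra A A'] [Algebra R A'] [IsScalarTower R A A'] [Algebra.FormallyEtale A A'] :
    IsBC R R A A' :=
  KaehlerDifferential.isBaseChange_of_formallyEtale R A A'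

theorem of_pushout (R R' A A' : Type u) [CommRing R] [CommRing R'] [CommRing A] [CommRing A']
    [Algebra R R'] [Algebra R A] [Algebra A A'] [Algebra R' A'] [Algebra R A']
    [IsScalarTower R A A'] [IsScalarTower R R' A'] [Algebra.IsPushout R R' A A'] :
    IsBC R R' A A' := by
  let e := KaehlerDifferential.tensorKaehlerEquiv R R' A A'
  refine IsBaseChange.of_equiv e fun x => ?_
  have hx : x ∈ Submodule.span A (Set.range (KaehlerDifferential.D R A)) := by
    rw [KaehlerDifferential.span_range_derivation]; trivial
  induction hx using Submodule.span_induction with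
  | mem x hx =>
    obtain ⟨a, rfl⟩ := hx
    rw [KaehlerDifferential.tensorKaehlerEquiv_tmul_D, one_smul, KaehlerDifferential.map_D]
  | zero => simp
  | add x y _ _ hx hy => rw [TensorProduct.tmul_add, map_add, map_add, hx, hy]
  | smul a x _ hx =>
    rw [TensorProduct.tmul_smul, LinearMap.map_smul, ← hx, ← algebraMap_smul A' a (e _), ← map_smul,
      algebraMap_smul]

theorem of_formallyUnramified (R R' A : Type u) [CommRing R] [CommRing R'] [CommRing A]
    [Algebra R R'] [Algebra R A] [Algebra R' A] [IsScalarTower R R' A]
    [Algebra.FormallyUnramified R R'] : IsBC R R' A A := by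
  let f := KaehlerDifferential.map R R' A A
  have hb : Function.Bijective f := by
    refine ⟨(injective_iff_map_eq_zero f).2 fun x hx => ?_, KaehlerDifferential.map_surjective R R' A⟩
    obtain ⟨y, rfl⟩ := (KaehlerDifferential.exact_mapBaseChange_map R R' A x).1 hx
    have : y = 0 := by
      clear hx
      induction y using TensorProduct.induction_on with
      | zero => rfl
      | tmul a w => rw [Subsingleton.elim w 0, TensorProduct.tmul_zero]
      | add a b ha hb => rw [ha, hb, add_zero]
    rw [this, map_zero]
  exact IsBaseChange.ofEquiv (LinearEquiv.ofBijective f hb)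

theorem comp {R R' R'' A A' A'' : Type u} [CommRing R] [CommRing R'] [CommRing R''] [CommRing A]
    [CommRing A'] [CommRing A'']
    [Algebra R R'] [Algebra R A] [Algebra A A'] [Algebra R' A'] [Algebra R A']
    [IsScalarTower R A A'] [IsScalarTower R R' A']
    [Algebra R' R''] [Algebra A' A''] [Algebra R'' A''] [Algebra R' A'']
    [IsScalarTower R' A' A''] [IsScalarTower R' R'' A'']
    [Algebra R R''] [Algebra A A''] [Algebra R A''] [IsScalarTower R A A''] [IsScalarTower R R'' A'']
    [IsScalarTower A A' A'']
    (h : IsBC R R' A A') (h' : IsBC R' R'' A' A'') : IsBC R R'' A A'' := by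
  have e : KaehlerDifferential.map R R'' A A'' =
      (KaehlerDifferential.map R' R'' A' A'').restrictScalars A ∘ₗ KaehlerDifferential.map R R' A A' := by
    refine Derivation.liftKaehlerDifferential_unique _ _ (Derivation.ext fun a => ?_)
    simp [← IsScalarTower.algebraMap_apply A A' A'']
  unfold IsBC
  rw [e]
  exact IsBaseChange.comp h h'

end Groth.Agent.NodalLib.IsBC
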