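import Mathlib.RingTheory.Kaehler.TensorProduct
import Mathlib.RingTheory.Etale.Kaehler
import Mathlib.RingTheory.Support
import Mathlib.RingTheory.LocalRing.Module
import Mathlib.RingTheory.Flat.FaithfullyFlat.Basic
import Groth.Agent.FittX.Ideal

/-!
# The singular ideal of a relative curve and the criterion for ordinary double points

For an algebra `A` over `R` let `J` be the first Fitting ideal of `Ω[A⁄R]`; `TR R A` says that the
differentials of `A ⧸ J` over `R` vanish, phrased inside `Ω[A⁄R]`.
-/

set_option autoImplicit false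
set_option linter.unusedSectionVars false
set_option linter.style.haveILetI false

universe u

open TensorProduct

attribute [local instance] SMulCommClass.of_commMonoid

namespace Groth.Agent.NodalLib

section Defs

variable (R A : Type u) [CommRing R] [CommRing A] [Algebra R A]

/-- The first Fitting ideal of the differentials. -/
noncomputable abbrev fitt1 : Ideal A := Fitt.ideal A Ω[A⁄R] 1

/-- The submodule of differentials killed in the quotient by the singular ideal. -/
noncomputable def sat : Submodule A Ω[A⁄R] :=
  Submodule.span A (KaehlerDifferential.D R A '' (fitt1 R A : Set A)) ⊔ fitt1 R A • ⊤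

/-- The quotient by `sat`, which is the module of differentials of the singular locus. -/
abbrev SingOmega : Type u := Ω[A⁄R] ⧸ sat R A

/-- The singular locus is unramified. -/
def TR : Prop := sat R A = ⊤

theorem tR_of_fitt1_eq_top (h : fitt1 R A = ⊤) : TR R A :=
  eq_top_iff.2 fun x _ => Submodule.mem_sup_right (by rw [h]; simp)

end Defs

section Square

variable (R R' A A' : Type u) [CommRing R] [CommRing R'] [CommRing A] [CommRing A']
  [Algebra R R'] [Algebra R A] [Algebra A A'] [Algebra R' A'] [Algebra R A']
  [IsScalarTower R A A'] [IsScalarTower R R' A']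

/-- The differentials of `A'` over `R'` are the base change of those of `A` over `R`. -/
def IsBC : Prop := IsBaseChange A' (KaehlerDifferential.map R R' A A')

variable {R R' A A'}

theorem IsBC.fitt1_eq [Module.Finite A Ω[A⁄R]] (h : IsBC R R' A A') :
    fitt1 R' A' = (fitt1 R A).map (algebraMap A A') :=
  FittX.ideal_baseChange h 1

theorem IsBC.sat_eq [Module.Finite A Ω[A⁄R]] (h : IsBC R R' A A') :
    sat R' A' = Submodule.span A' (KaehlerDifferential.map R R' A A' '' (sat R A : Set Ω[A⁄R])) := by
  set f := KaehlerDifferential.map R R' A A' with hf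
  set N := Submodule.span A' (f '' (sat R A : Set Ω[A⁄R]))
  have hJ := h.fitt1_eq
  have hmul : ∀ j ∈ fitt1 R A, ∀ w : Ω[A'⁄R'], algebraMap A A' j • w ∈ N := by
    intro j hj w
    induction w using IsBaseChange.inductionOn h with
    | zero => simp
    | tmul m =>
      rw [algebraMap_smul, ← f.map_smul]
      exact Submodule.subset_span ⟨_, Submodule.mem_sup_right (Submodule.smul_mem_smul hj trivial), rfl⟩
    | smul s y hy => rw [smul_comm]; exact N.smul_mem _ hy
    | add a b ha hb => rw [smul_add]; exact N.add_mem ha hb
  have hmul' : ∀ j ∈ fitt1 R' A', ∀ w : Ω[A'⁄R'], j • w ∈ N := by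
    intro j hj w
    rw [hJ] at hj
    induction hj using Submodule.span_induction with
    | mem x hx => obtain ⟨j, hj, rfl⟩ := hx; exact hmul j hj w
    | zero => simp
    | add x y _ _ hx hy => rw [add_smul]; exact N.add_mem hx hy
    | smul a x _ hx => rw [smul_eq_mul, mul_smul]; exact N.smul_mem _ hx
  refine le_antisymm (sup_le (Submodule.span_le.2 ?_) (Submodule.smul_le.2 fun j hj w _ => hmul' j hj w)) ?_
  · rintro _ ⟨x, hx, rfl⟩
    rw [SetLike.mem_coe, hJ] at hx
    induction hx using Submodule.span_induction with
    | mem x hx =>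
      obtain ⟨j, hj, rfl⟩ := hx
      rw [← KaehlerDifferential.map_D R R' A A' j]
      exact Submodule.subset_span ⟨_, Submodule.mem_sup_left (Submodule.subset_span ⟨j, hj, rfl⟩), rfl⟩
    | zero => simp
    | add x y _ _ hx hy => rw [map_add]; exact N.add_mem hx hy
    | smul a x hx' hx =>
      rw [smul_eq_mul, Derivation.leibniz]
      exact N.add_mem (N.smul_mem _ hx) (hmul' x (by rw [hJ]; exact hx') _)
  · have hle : sat R A ≤ ((sat R' A').restrictScalars A).comap f := by
      refine sup_le (Submodule.span_le.2 ?_) (Submodule.smul_le.2 fun j hj w _ => ?_)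
      · rintro _ ⟨j, hj, rfl⟩
        show f _ ∈ sat R' A'
        rw [hf, KaehlerDifferential.map_D]
        exact Submodule.mem_sup_left (Submodule.subset_span ⟨_, hJ ▸ Ideal.mem_map_of_mem _ hj, rfl⟩)
      · show f _ ∈ sat R' A'
        rw [f.map_smul, ← algebraMap_smul A' j (f w)]
        exact Submodule.mem_sup_right
          (Submodule.smul_mem_smul (hJ ▸ Ideal.mem_map_of_mem _ hj) trivial)
    rw [Submodule.span_le]
    rintro _ ⟨w, hw, rfl⟩
    exact hle hw

theorem IsBC.tR_iff [Module.Finite A Ω[A⁄R]] (h : IsBC R R' A A') :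
    TR R' A' ↔ Subsingleton (A' ⊗[A] SingOmega R A) := by
  set f := KaehlerDifferential.map R R' A A'
  rw [TR, h.sat_eq]
  constructor
  · intro htop
    let L : Ω[A'⁄R'] →ₗ[A'] A' ⊗[A] SingOmega R A :=
      h.lift ((TensorProduct.mk A A' (SingOmega R A) 1).comp (sat R A).mkQ)
    have hL : ∀ m, L (f m) = 1 ⊗ₜ (sat R A).mkQ m := fun m => h.lift_eq _ m
    have h0 : ∀ w, L w = 0 := by
      have : Submodule.span A' (f '' (sat R A : Set Ω[A⁄R])) ≤ LinearMap.ker L := by
        rw [Submodule.span_le]
        rintro _ ⟨w, hw, rfl⟩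
        rw [SetLike.mem_coe, LinearMap.mem_ker, hL, Submodule.mkQ_apply,
          (Submodule.Quotient.mk_eq_zero _).2 hw, TensorProduct.tmul_zero]
      exact fun w => this (htop ▸ trivial)
    refine subsingleton_of_forall_eq 0 fun t => ?_
    induction t using TensorProduct.induction_on with
    | zero => rfl
    | tmul a q =>
      obtain ⟨m, rfl⟩ := (sat R A).mkQ_surjective q
      have := h0 (a • f m)
      rwa [map_smul, hL, TensorProduct.smul_tmul', smul_eq_mul, mul_one] at this
    | add x y hx hy => rw [hx, hy, add_zero]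
  · intro hs
    set N := Submodule.span A' (f '' (sat R A : Set Ω[A⁄R]))
    let g : SingOmega R A →ₗ[A] Ω[A'⁄R'] ⧸ N := (sat R A).liftQ ((N.mkQ.restrictScalars A).comp f)
      (fun w hw => (Submodule.Quotient.mk_eq_zero N).2 (Submodule.subset_span ⟨w, hw, rfl⟩))
    let G : A' ⊗[A] SingOmega R A →ₗ[A'] Ω[A'⁄R'] ⧸ N := g.liftBaseChange A'
    rw [Submodule.eq_top_iff']
    intro w
    induction w using IsBaseChange.inductionOn h with
    | zero => simp
    | tmul m =>
      have : G (1 ⊗ₜ (sat R A).mkQ m) = N.mkQ (f m) := by
        rw [LinearMap.liftBaseChange_tmul, one_smul]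
        rfl
      rw [Subsingleton.elim (1 ⊗ₜ[A] (sat R A).mkQ m) 0, map_zero] at this
      exact (Submodule.Quotient.mk_eq_zero N).1 this.symm
    | smul s y hy => exact N.smul_mem _ hy
    | add a b ha hb => exact N.add_mem ha hb

theorem IsBC.tR_iff_of_bijective [Module.Finite A Ω[A⁄R]] (h : IsBC R R' A A')
    (hb : Function.Bijective (algebraMap A A')) : TR R' A' ↔ TR R A := by
  let e : A ≃ₗ[A] A' := LinearEquiv.ofBijective (Algebra.linearMap A A') hb
  rw [h.tR_iff, ((TensorProduct.congr e.symm (LinearEquiv.refl A _)).trans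
    (TensorProduct.lid A (SingOmega R A))).toEquiv.subsingleton_congr, TR,
    Submodule.Quotient.subsingleton_iff]

theorem subsingleton_tensor_iff_notMem_support {Q : Type u} [AddCommGroup Q] [Module A Q]
    [Module.Finite A Q] [IsLocalRing A'] :
    Subsingleton (A' ⊗[A] Q) ↔
      PrimeSpectrum.comap (algebraMap A A') (IsLocalRing.closedPoint A') ∉ Module.support A Q := by
  set p := PrimeSpectrum.comap (algebraMap A A') (IsLocalRing.closedPoint A')
  constructor
  · intro hs hp
    rw [Module.mem_support_iff_nontrivial_residueField_tensorProduct] at hp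
    let ι : p.asIdeal.ResidueField →ₐ[A] IsLocalRing.ResidueField A' :=
      Ideal.ResidueField.liftₐ _ (Algebra.ofId A (IsLocalRing.ResidueField A'))
        (fun a ha => by
          rw [RingHom.mem_ker]
          show algebraMap A _ a = 0
          rw [IsScalarTower.algebraMap_apply A A' (IsLocalRing.ResidueField A')]
          exact (IsLocalRing.residue_eq_zero_iff _).2 ha)
        (fun a ha => by
          rw [Submonoid.mem_comap, IsUnit.mem_submonoid_iff, isUnit_iff_ne_zero]
          show algebraMap A _ a ≠ 0
          rw [IsScalarTower.algebraMap_apply A A' (IsLocalRing.ResidueField A')]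
          exact fun h => ha ((IsLocalRing.residue_eq_zero_iff _).1 h))
    letI : Algebra p.asIdeal.ResidueField (IsLocalRing.ResidueField A') := ι.toRingHom.toAlgebra
    haveI : IsScalarTower A p.asIdeal.ResidueField (IsLocalRing.ResidueField A') :=
      IsScalarTower.of_algebraMap_eq fun a => (ι.commutes a).symm
    haveI h1 : Subsingleton (IsLocalRing.ResidueField A' ⊗[A'] (A' ⊗[A] Q)) :=
      subsingleton_of_forall_eq 0 fun t => by
        induction t using TensorProduct.induction_on with
        | zero => rfl
        | tmul a b => rw [Subsingleton.elim b 0, TensorProduct.tmul_zero]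
        | add x y hx hy => rw [hx, hy, add_zero]
    haveI h2 : Subsingleton (IsLocalRing.ResidueField A' ⊗[A] Q) :=
      (AlgebraTensorModule.cancelBaseChange A A' A' (IsLocalRing.ResidueField A') Q).symm.injective.subsingleton
    haveI h3 : Subsingleton (IsLocalRing.ResidueField A' ⊗[p.asIdeal.ResidueField] (p.asIdeal.ResidueField ⊗[A] Q)) :=
      (AlgebraTensorModule.cancelBaseChange A p.asIdeal.ResidueField p.asIdeal.ResidueField
        (IsLocalRing.ResidueField A') Q).injective.subsingleton
    haveI := (Module.FaithfullyFlat.subsingleton_tensorProduct_iff_right p.asIdeal.ResidueField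
      (IsLocalRing.ResidueField A')).1 h3
    exact not_nontrivial _ hp
  · intro hp
    obtain ⟨s, hs, hs0⟩ : ∃ s ∈ Module.annihilator A Q, s ∉ p.asIdeal := by
      rw [Module.mem_support_iff_of_finite] at hp
      exact SetLike.not_le_iff_exists.1 hp
    have hu : IsUnit (algebraMap A A' s) := by
      by_contra hn
      exact hs0 ((IsLocalRing.mem_maximalIdeal _).2 hn)
    refine subsingleton_of_forall_eq 0 fun t => ?_
    rw [← hu.smul_eq_zero, algebraMap_smul]
    induction t using TensorProduct.induction_on with
    | zero => simp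
    | tmul a q => rw [← TensorProduct.tmul_smul, Module.mem_annihilator.1 hs q, TensorProduct.tmul_zero]
    | add x y hx hy => rw [smul_add, hx, hy, add_zero]

theorem IsBC.tR_iff_notMem_support [Module.Finite A Ω[A⁄R]] [IsLocalRing A'] (h : IsBC R R' A A') :
    TR R' A' ↔
      PrimeSpectrum.comap (algebraMap A A') (IsLocalRing.closedPoint A') ∉ Module.support A (SingOmega R A) :=
  h.tR_iff.trans subsingleton_tensor_iff_notMem_support

theorem IsBC.fitt1_eq_top_iff [Module.Finite A Ω[A⁄R]] [IsLocalRing A'] (h : IsBC R R' A A') :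
    fitt1 R' A' = ⊤ ↔
      PrimeSpectrum.comap (algebraMap A A') (IsLocalRing.closedPoint A') ∉
        PrimeSpectrum.zeroLocus (fitt1 R A : Set A) := by
  rw [h.fitt1_eq, ← not_iff_not, not_not, PrimeSpectrum.mem_zeroLocus, SetLike.coe_subset_coe]
  refine ⟨fun hne => Ideal.map_le_iff_le_comap.1 (IsLocalRing.le_maximalIdeal hne), fun hle htop => ?_⟩
  have := Ideal.map_le_iff_le_comap.2 hle
  rw [htop] at this
  exact (IsLocalRing.maximalIdeal.isMaximal A').ne_top (eq_top_iff.2 this)

end Square

end Groth.Agent.NodalLib
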