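import Groth.Agent.NodalLib.Family
import Groth.Agent.CurveSpaceLib.Reduced

/-!
# The projective line is a nodal family; nodal loci in the stack of curves
-/

set_option autoImplicit false
set_option linter.style.haveILetI false
set_option backward.isDefEq.respectTransparency false
set_option backward.isDefEq.respectTransparency.types false

universe u

open CategoryTheory CategoryTheory.Limits AlgebraicGeometry AlgSp Groth.Agent.AlgSpLib

namespace Groth.Agent.NodalLib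

variable {S : Scheme.{u}}

theorem qPt_P1 (Ω : Type u) [Field Ω] (x : CohB1.ProjSpace 1 Ω) : QPt (CohB1.ProjSpace.toSpec 1 Ω) x := by
  let P := CohB1.ProjSpace 1 Ω
  let q := CohB1.ProjSpace.toSpec 1 Ω
  haveI : Smooth q := CurvOpenLib.ProjSp.smooth_toSpec 1 Ω
  letI : P.Over (Spec (CommRingCat.of Ω)) := ⟨q⟩
  haveI : LocallyOfFiniteType (P ↘ Spec (CommRingCat.of Ω)) := inferInstanceAs (LocallyOfFiniteType q)
  haveI : JacobsonSpace P := LocallyOfFiniteType.jacobsonSpace q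
  have ho := ptProp_qPt.isOpen q
  by_contra hx
  obtain ⟨x₀, hx₀, hc⟩ := nonempty_inter_closedPoints (Z := {z : P | QPt q z}ᶜ) ⟨x, hx⟩
    ho.isClosed_compl.isLocallyClosed
  exact hx₀ (qPt_of_smooth_closed (k := Ω) (X := P) hc
    (show x₀ ∈ q.smoothLocus by rw [Scheme.Hom.smoothLocus_eq_top]; trivial)
    (CurvOpenLib.P1.fibreDim Ω x₀)).1

theorem nodalFam_iff {X Y : Scheme.{u}} (h : X ⟶ Y) [Flat h] [LocallyOfFinitePresentation h] :
    CurvSt.nodalFam h ↔ ∀ x, QPt h x :=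
  isNodalFamily_iff' h

theorem locP_P1 (Ω : Type u) [Field Ω] (t : Spec (CommRingCat.of Ω) ⟶ S) :
    LocP CurvSt.nodalFam (CurvOpenLib.P1.curve Ω t).obj.f := by
  have h := CurvOpenLib.P1.isCurveFam Ω t
  refine (CurvOpenLib.GenLocus.locP_iff ptProp_qPt (P := CurvSt.nodalFam) (fun f _ _ => nodalFam_iff f) h.1
    (IsAlgSpace.yon_obj _) h.2.1 h.2.2.2.1.1).2 fun x => ?_
  exact CurvOpenLib.at_yon_map (Q := fun {_ _} g u => QPt g u) (CurvOpenLib.P1.pt Ω t).fOver (fun u => qPt_P1 Ω u) x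

theorem geomFib_P1_nonempty (Ω : Type u) [Field Ω] (t : Spec (CommRingCat.of Ω) ⟶ S) :
    CurvSt.GeomFib (fun _ _ _ X' _ _ => Nonempty ↥X') (CurvOpenLib.P1.curve Ω t).obj := by
  refine (CurvLocusLib.geomFib_iff (Over.mk t) (CohB1.ProjSpace.toSpec 1 Ω)
    (fun _ _ _ X' _ => Nonempty ↥X')).2 ?_
  intro Ω' _ _ τ X' q g hg
  haveI : Surjective τ := ⟨fun y => ⟨IsLocalRing.closedPoint Ω', Subsingleton.elim (α := PrimeSpectrum Ω) _ y⟩⟩
  haveI : Surjective g := MorphismProperty.of_isPullback hg.flip ‹Surjective τ›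
  haveI : IsIntegral (CohB1.ProjSpace 1 Ω) := CurvOpenLib.ProjSp.isIntegral_projSpace 1 Ω
  obtain ⟨x, -⟩ := g.surjective (Classical.arbitrary ↥(CohB1.ProjSpace 1 Ω))
  exact ⟨x⟩

end Groth.Agent.NodalLib
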