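import Groth.Agent.NodalLib.Main
import Groth.Agent.S1621
import Groth.Agent.VarDim.Top

/-!
# Nodal families are the flat finitely presented morphisms satisfying the criterion everywhere
-/

set_option autoImplicit false
set_option linter.unusedSectionVars false
set_option linter.style.haveILetI false
set_option backward.isDefEq.respectTransparency false
set_option backward.isDefEq.respectTransparency.types false

universe u

open CategoryTheory CategoryTheory.Limits AlgebraicGeometry

namespace Groth.Agent.NodalLib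

section Dim

variable {k : Type u} [Field k] {X : Scheme.{u}} [X.Over (Spec (CommRingCat.of k))]
  [LocallyOfFiniteType (X ↘ Spec (CommRingCat.of k))]

include k in
theorem localDim_eq_one_of_components
    (h : ∀ Z ∈ irreducibleComponents (X : Type u), topologicalKrullDim Z = 1) (x : X) :
    FlatMor.localDim X x = ((1 : ℕ) : WithBot ℕ∞) := by
  set f := X ↘ Spec (CommRingCat.of k)
  obtain ⟨b, hb, ⟨η, hη, hηd⟩, hmax⟩ := VarDim.exists_deg_add_stalk f x
  rw [Groth.Agent.S1621.localDim_eq k X x b hb, ← hηd]
  have key : ∀ z : X, ∃ θ, θ ⤳ z ∧ VarDim.deg f θ = 1 := fun z => by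
    obtain ⟨Z, hZ, hzZ⟩ := exists_mem_irreducibleComponents_subset_of_isIrreducible {z} isIrreducible_singleton
    have hcl := isClosed_of_mem_irreducibleComponents Z hZ
    have hg := hZ.1.isGenericPoint_genericPoint hcl
    refine ⟨hZ.1.genericPoint, hg.specializes (hzZ rfl), ?_⟩
    have h1 := h Z hZ
    rw [← hg.def, VarDim.topologicalKrullDim_closure_singleton f] at h1
    exact_mod_cast h1
  obtain ⟨θ, hθ, hθd⟩ := key η
  obtain ⟨θ', hθ', hθd'⟩ := key x
  have h1 : VarDim.deg f η ≤ 1 := hθd ▸ VarDim.deg_le_of_specializes f hθ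
  have h2 : 1 ≤ VarDim.deg f η := by
    have := hmax θ' hθ'
    omega
  exact_mod_cast le_antisymm h1 h2

include k in
theorem components_of_localDim_eq_one
    (h : ∀ x : X, FlatMor.localDim X x = ((1 : ℕ) : WithBot ℕ∞))
    {Z : Set X} (hZ : Z ∈ irreducibleComponents (X : Type u)) : topologicalKrullDim Z = 1 := by
  set f := X ↘ Spec (CommRingCat.of k)
  have hcl := isClosed_of_mem_irreducibleComponents Z hZ
  have hg := hZ.1.isGenericPoint_genericPoint hcl
  set θ := hZ.1.genericPoint
  obtain ⟨b, hb, ⟨η, hη, hηd⟩, -⟩ := VarDim.exists_deg_add_stalk f θ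
  have hmem : Z ⊆ closure {η} := by
    rw [← hg.def]
    exact closure_minimal (Set.singleton_subset_iff.2 (specializes_iff_mem_closure.1 hη)) isClosed_closure
  have hle : closure {η} ⊆ Z := hZ.2 isIrreducible_singleton.closure hmem
  have heq : η ∈ closure ({θ} : Set X) := by
    rw [hg.def]; exact hle (subset_closure rfl)
  obtain rfl : η = θ := (hη.antisymm (specializes_iff_mem_closure.2 heq)).eq
  have hd := h θ
  rw [Groth.Agent.S1621.localDim_eq k X θ b hb, ← hηd] at hd
  rw [← hg.def, VarDim.topologicalKrullDim_closure_singleton f]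
  exact_mod_cast hd

end Dim

variable {X Y S : Scheme.{u}}

theorem qPt_fiber_iff (f : X ⟶ S) [Flat f] [LocallyOfFinitePresentation f] (s : S) (z : f.fiber s) :
    QPt (f.fiberToSpecResidueField s) z ↔ QPt f (f.fiberι s z) := by
  haveI : Flat (f.fiberToSpecResidueField s) := MorphismProperty.pullback_snd _ _ inferInstance
  haveI : LocallyOfFinitePresentation (f.fiberToSpecResidueField s) :=
    MorphismProperty.pullback_snd _ _ inferInstance
  exact ptProp_qPt.baseChange (IsPullback.of_hasPullback f (S.fromSpecResidueField s)) z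

theorem forall_qPt_of_fibre {f : X ⟶ S} [Flat f] [LocallyOfFinitePresentation f] (s : S)
    (h : (∀ Z ∈ irreducibleComponents (f.fiber s : Type u), topologicalKrullDim Z = 1) ∧
      (letI : (f.fiber s).Over (Spec (S.residueField s)) := ⟨f.fiberToSpecResidueField s⟩
      Curv2.AtWorstNodal (S.residueField s) (f.fiber s))) :
    ∀ z : f.fiber s, QPt (f.fiberToSpecResidueField s) z := by
  letI : (f.fiber s).Over (Spec (CommRingCat.of (S.residueField s))) := ⟨f.fiberToSpecResidueField s⟩
  haveI : LocallyOfFiniteType ((f.fiber s) ↘ Spec (CommRingCat.of (S.residueField s))) :=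
    inferInstanceAs (LocallyOfFiniteType (f.fiberToSpecResidueField s))
  refine forall_qPt_of_atWorstNodal (k := S.residueField s) (X := f.fiber s) (fun z _ => ?_) h.2
  rw [CIntLib.fibreDimAt_eq_localDim]
  exact localDim_eq_one_of_components (k := S.residueField s) h.1 z

theorem fibre_of_forall_qPt {f : X ⟶ S} [LocallyOfFiniteType f] (s : S)
    (h : ∀ z : f.fiber s, QPt (f.fiberToSpecResidueField s) z) :
    (∀ Z ∈ irreducibleComponents (f.fiber s : Type u), topologicalKrullDim Z = 1) ∧
      (letI : (f.fiber s).Over (Spec (S.residueField s)) := ⟨f.fiberToSpecResidueField s⟩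
      Curv2.AtWorstNodal (S.residueField s) (f.fiber s)) := by
  letI : (f.fiber s).Over (Spec (CommRingCat.of (S.residueField s))) := ⟨f.fiberToSpecResidueField s⟩
  haveI : LocallyOfFiniteType ((f.fiber s) ↘ Spec (CommRingCat.of (S.residueField s))) :=
    inferInstanceAs (LocallyOfFiniteType (f.fiberToSpecResidueField s))
  refine ⟨fun Z hZ => components_of_localDim_eq_one (k := S.residueField s) (fun z => ?_) hZ,
    atWorstNodal_of_forall_qPt (k := S.residueField s) h⟩
  exact (CIntLib.fibreDimAt_eq_localDim (S.residueField s)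
    ((f.fiber s) ↘ Spec (CommRingCat.of (S.residueField s))) z).symm.trans (h z).1.2

/-- Nodal families through the pointwise criterion. -/
theorem isNodalFamily_iff (f : X ⟶ S) :
    Curv2.IsNodalFamily f ↔ Flat f ∧ LocallyOfFinitePresentation f ∧ ∀ x, QPt f x := by
  constructor
  · rintro ⟨h1, h2, h⟩
    haveI := h1
    haveI := h2
    refine ⟨h1, h2, fun x => ?_⟩
    have := (qPt_fiber_iff f (f x) (f.asFiber x)).1 (forall_qPt_of_fibre (f x) (h (f x)) _)
    rwa [Scheme.Hom.fiberι_asFiber] at this
  · rintro ⟨h1, h2, h⟩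
    haveI := h1
    haveI := h2
    exact ⟨h1, h2, fun s => fibre_of_forall_qPt s fun z => (qPt_fiber_iff f s z).2 (h _)⟩

theorem isNodalFamily_iff' (f : X ⟶ S) [Flat f] [LocallyOfFinitePresentation f] :
    Curv2.IsNodalFamily f ↔ ∀ x, QPt f x :=
  (isNodalFamily_iff f).trans ⟨fun h => h.2.2, fun h => ⟨inferInstance, inferInstance, h⟩⟩

/-- The nodal locus of a flat finitely presented morphism. -/
def nodalLocus (f : X ⟶ S) [Flat f] [LocallyOfFinitePresentation f] : X.Opens :=
  ⟨{x | QPt f x}, ptProp_qPt.isOpen f⟩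

theorem isNodalFamily_restrict_iff (f : X ⟶ S) [Flat f] [LocallyOfFinitePresentation f] (V : X.Opens) :
    Curv2.IsNodalFamily (V.ι ≫ f) ↔ V ≤ nodalLocus f := by
  rw [isNodalFamily_iff']
  constructor
  · exact fun h x hx => (ptProp_qPt.precomp V.ι f ⟨x, hx⟩).1 (h ⟨x, hx⟩)
  · exact fun h x => (ptProp_qPt.precomp V.ι f x).2 (h x.2)

end Groth.Agent.NodalLib
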