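import Groth.Agent.NodalLib.Pt
import Groth.Agent.NodalLib.Node
import Groth.Agent.GeomConn5.Point
import Groth.Agent.SmoothReg.Scheme
import Groth.Agent.CIntLib.LocalDimIrred
import Groth.Agent.S1617
import Groth.Agent.CurvLocusLib.LocP
import Groth.Agent.Triage.CMMor
import Groth.Agent.LC.GorRing
import Groth.Agent.LC.ExtDim
import Groth.Agent.LC.PuncturedConn
import Groth.Agent.PlanarExt.Basic
import Mathlib.AlgebraicGeometry.AlgClosed.Basic
import Mathlib.RingTheory.Unramified.Field

/-!
# The nodal criterion at closed points of a scheme over an algebraically closed field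
-/

set_option autoImplicit false
set_option linter.unusedSectionVars false
set_option linter.style.haveILetI false
set_option backward.isDefEq.respectTransparency false
set_option backward.isDefEq.respectTransparency.types false

universe u

open CategoryTheory CategoryTheory.Limits AlgebraicGeometry IsLocalRing
open scoped nonZeroDivisors

namespace Groth.Agent.NodalLib

variable (k : Type u) [Field k] (X : Scheme.{u}) [X.Over (Spec (CommRingCat.of k))]
  [LocallyOfFiniteType (X ↘ Spec (CommRingCat.of k))]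

attribute [local instance] Curv2.stalkAlgebra

theorem field_iff (x : X) :
    Module.Finite (X.presheaf.stalk x) Ω[X.presheaf.stalk x⁄k] ∧
    Algebra.EssFiniteType k (X.presheaf.stalk x) ∧
    (T (X ↘ Spec (CommRingCat.of k)) x ↔ TR k (X.presheaf.stalk x)) ∧
    (JTop (X ↘ Spec (CommRingCat.of k)) x ↔ fitt1 k (X.presheaf.stalk x) = ⊤) := by
  let S := Spec (CommRingCat.of k)
  let f := X ↘ S
  let R := S.presheaf.stalk (f x)
  let c₁ : k →+* Γ(S, ⊤) := (Scheme.ΓSpecIso (CommRingCat.of k)).inv.hom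
  letI : Algebra k Γ(S, ⊤) := c₁.toAlgebra
  letI : Algebra Γ(S, ⊤) R := (S.presheaf.germ ⊤ (f x) trivial).hom.toAlgebra
  letI : Algebra k R := ((S.presheaf.germ ⊤ (f x) trivial).hom.comp c₁).toAlgebra
  haveI : IsScalarTower k Γ(S, ⊤) R := IsScalarTower.of_algebraMap_eq' rfl
  haveI : IsLocalization.AtPrime R ((isAffineOpen_top S).primeIdealOf ⟨f x, trivial⟩).asIdeal :=
    (isAffineOpen_top S).isLocalization_stalk ⟨f x, trivial⟩
  have hc₁ : Function.Surjective (algebraMap k Γ(S, ⊤)) :=
    (ConcreteCategory.bijective_of_isIso (Scheme.ΓSpecIso (CommRingCat.of k)).inv).2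
  haveI : Algebra.FormallyUnramified k Γ(S, ⊤) :=
    Algebra.FormallyUnramified.of_surjective (R := k) (A := k) (Algebra.ofId k Γ(S, ⊤)) hc₁
  haveI : Algebra.FormallyUnramified Γ(S, ⊤) R :=
    Algebra.FormallyUnramified.of_isLocalization
      ((isAffineOpen_top S).primeIdealOf ⟨f x, trivial⟩).asIdeal.primeCompl
  haveI : Algebra.FormallyUnramified k R := Algebra.FormallyUnramified.comp k Γ(S, ⊤) R
  haveI : Algebra.EssFiniteType k Γ(S, ⊤) := by
    haveI : Algebra.FiniteType k Γ(S, ⊤) := RingHom.FiniteType.of_surjective _ hc₁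
    infer_instance
  haveI : Algebra.EssFiniteType Γ(S, ⊤) R :=
    Algebra.EssFiniteType.of_isLocalization R
      ((isAffineOpen_top S).primeIdealOf ⟨f x, trivial⟩).asIdeal.primeCompl
  haveI : Algebra.EssFiniteType k R := Algebra.EssFiniteType.comp k Γ(S, ⊤) R
  letI : Algebra R (X.presheaf.stalk x) := (f.stalkMap x).hom.toAlgebra
  haveI : Algebra.EssFiniteType R (X.presheaf.stalk x) := LocallyOfFiniteType.stalkMap f x
  haveI : IsScalarTower k R (X.presheaf.stalk x) := IsScalarTower.of_algebraMap_eq fun c =>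
    (Scheme.Hom.germ_stalkMap_apply f ⊤ x trivial _).symm
  haveI : Algebra.EssFiniteType k (X.presheaf.stalk x) := Algebra.EssFiniteType.comp k R _
  have hbc := IsBC.of_formallyUnramified k R (X.presheaf.stalk x)
  refine ⟨inferInstance, inferInstance, ?_, ?_⟩
  · exact hbc.tR_iff_of_bijective Function.bijective_id
  · show fitt1 R (X.presheaf.stalk x) = ⊤ ↔ _
    rw [hbc.fitt1_eq, Algebra.algebraMap_self, Ideal.map_id]

theorem residue_bijective [IsAlgClosed k] {x : X} (hx : IsClosed ({x} : Set X)) :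
    Function.Bijective (algebraMap k (IsLocalRing.ResidueField (X.presheaf.stalk x))) := by
  refine ⟨(algebraMap k _).injective, ?_⟩
  show Function.Surjective (Curv2.resMap k X x)
  let e := residueFieldIsoBase (X ↘ Spec (CommRingCat.of k)) x hx
  have h : e.inv = CommRingCat.ofHom (Curv2.resMap k X x) :=
    Spec.map_injective (by rw [SpecMap_residueFieldIsoBase_inv, GeomConn5.spec_resMap])
  exact fun y => ⟨e.hom y, by
    change (CommRingCat.ofHom (Curv2.resMap k X x)) (e.hom y) = y
    rw [← h]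
    exact e.hom_inv_id_apply y⟩

theorem cm_iff (x : X) :
    MoreMor.IsCMAt (X ↘ Spec (CommRingCat.of k)) x ↔
      LocCoh.IsCohenMacaulayLocalRing (X.presheaf.stalk x) := by
  obtain ⟨hfl, ⟨e⟩⟩ := CurvLocusLib.fibre_of_etale_base (k := k) (X ↘ Spec (CommRingCat.of k)) (𝟙 _) x
  exact ⟨fun h => Triage.CMMor.isCM_of_equiv e.symm h.2, fun h => ⟨hfl, Triage.CMMor.isCM_of_equiv e h⟩⟩

theorem fibreDim_iff {x : X} (hx : IsClosed ({x} : Set X)) (d : WithBot ℕ∞) :
    FlatMor.fibreDimAt (X ↘ Spec (CommRingCat.of k)) x = d ↔ ringKrullDim (X.presheaf.stalk x) = d := by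
  rw [CIntLib.fibreDimAt_eq_localDim, Groth.Agent.S1617.result k X x hx]

variable [IsAlgClosed k] {x : X}

theorem finrank_cast_eq_dim_iff {A : Type u} [CommRing A] [IsLocalRing A] [IsNoetherianRing A]
    (hd : ringKrullDim A = ((1 : ℕ) : WithBot ℕ∞)) :
    IsRegularLocalRing A ↔ Module.finrank (ResidueField A) (CotangentSpace A) ≤ 1 := by
  rw [IsRegularLocalRing.iff_finrank_cotangentSpace, hd]
  refine ⟨fun h => ?_, fun h => ?_⟩
  · exact le_of_eq (by exact_mod_cast h)
  · have := ringKrullDim_le_spanFinrank_maximalIdeal A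
    rw [hd, spanFinrank_maximalIdeal_eq_finrank_cotangentSpace] at this
    have : 1 ≤ Module.finrank (ResidueField A) (CotangentSpace A) := by exact_mod_cast this
    exact_mod_cast (le_antisymm h this)

/-- A closed point satisfying the criterion is smooth or an ordinary double point. -/
theorem smooth_or_odp_of_qPt (hx : IsClosed ({x} : Set X)) (h : QPt (X ↘ Spec (CommRingCat.of k)) x) :
    (x ∈ (X ↘ Spec (CommRingCat.of k)).smoothLocus ∧ JTop (X ↘ Spec (CommRingCat.of k)) x) ∨
      (Curv2.IsOrdDoublePt k (X.presheaf.stalk x) ∧ ¬ JTop (X ↘ Spec (CommRingCat.of k)) x) := by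
  haveI : IsLocallyNoetherian X := LocallyOfFiniteType.isLocallyNoetherian (X ↘ Spec (CommRingCat.of k))
  obtain ⟨⟨hcm, hd⟩, hT⟩ := h
  obtain ⟨hfin, hess, hTi, hJi⟩ := field_iff k X x
  haveI := hfin
  haveI := hess
  rw [hTi] at hT
  haveI hcm' := (cm_iff k X x).1 hcm
  have hd' := (fibreDim_iff k X hx _).1 hd
  have hres := residue_bijective k X hx
  set A := X.presheaf.stalk x
  by_cases hJ : fitt1 k A = ⊤
  · refine Or.inl ⟨?_, hJi.2 hJ⟩
    rw [SmoothReg.mem_smoothLocus_iff_isRegularLocalRing]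
    exact (finrank_cast_eq_dim_iff hd').2 ((fitt1_eq_top_iff hres).1 hJ)
  · refine Or.inr ⟨?_, fun h => hJ (hJi.1 h)⟩
    have hJm : fitt1 k A = maximalIdeal A := by
      haveI : Nontrivial (A ⧸ fitt1 k A) := Ideal.Quotient.nontrivial_iff.2 hJ
      haveI : IsLocalRing (A ⧸ fitt1 k A) :=
        IsLocalRing.of_surjective' (Ideal.Quotient.mk _) Ideal.Quotient.mk_surjective
      haveI : Algebra.EssFiniteType A (A ⧸ fitt1 k A) := inferInstance
      haveI : Algebra.EssFiniteType k (A ⧸ fitt1 k A) := Algebra.EssFiniteType.comp k A _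
      haveI : Algebra.FormallyUnramified k (A ⧸ fitt1 k A) := by
        refine ⟨⟨fun a b => ?_⟩⟩
        suffices h0 : ∀ w, w = (0 : Ω[(A ⧸ fitt1 k A)⁄k]) from (h0 a).trans (h0 b).symm
        intro w
        let π := KaehlerDifferential.map k k A (A ⧸ fitt1 k A)
        obtain ⟨w, rfl⟩ := KaehlerDifferential.map_surjective_of_surjective k k A (A ⧸ fitt1 k A)
          Ideal.Quotient.mk_surjective w
        have hle : sat k A ≤ LinearMap.ker π := by
          refine sup_le (Submodule.span_le.2 ?_) (Submodule.smul_le.2 fun j hj v _ => ?_)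
          · rintro _ ⟨j, hj, rfl⟩
            rw [SetLike.mem_coe, LinearMap.mem_ker, KaehlerDifferential.map_D, Ideal.Quotient.algebraMap_eq,
              Ideal.Quotient.eq_zero_iff_mem.2 hj, map_zero]
          · rw [LinearMap.mem_ker, map_smul, ← algebraMap_smul (A ⧸ fitt1 k A) j, Ideal.Quotient.algebraMap_eq,
              Ideal.Quotient.eq_zero_iff_mem.2 hj, zero_smul]
        exact hle ((show sat k A = ⊤ from hT) ▸ trivial)
      have hf : IsField (A ⧸ fitt1 k A) :=
        Algebra.FormallyUnramified.isField_of_isAlgClosed_of_isLocalRing k _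
      exact IsLocalRing.eq_maximalIdeal (Ideal.Quotient.maximal_of_isField _ hf)
    have hdep : ((1 : ℕ) : ℕ∞) ≤ LocCoh.depth A A := by
      have h := hcm'.supportDim_eq_depth
      rw [Module.supportDim_self_eq_ringKrullDim, hd'] at h
      exact le_of_eq (by exact_mod_cast h)
    obtain ⟨t, ht, hreg⟩ := LC.exists_regular_of_depth (M := A) one_pos hdep
    refine isOrdDoublePt_of_fitt1 hres hJm ht ?_
    exact mem_nonZeroDivisors_iff_right.2 fun z hz => hreg (by
      show t * z = t * 0
      rw [mul_zero, mul_comm, hz])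

theorem qPt_of_smooth (hx : IsClosed ({x} : Set X)) (hs : x ∈ (X ↘ Spec (CommRingCat.of k)).smoothLocus)
    (hd : FlatMor.fibreDimAt (X ↘ Spec (CommRingCat.of k)) x = ((1 : ℕ) : WithBot ℕ∞)) :
    QPt (X ↘ Spec (CommRingCat.of k)) x ∧ JTop (X ↘ Spec (CommRingCat.of k)) x := by
  haveI : IsLocallyNoetherian X := LocallyOfFiniteType.isLocallyNoetherian (X ↘ Spec (CommRingCat.of k))
  obtain ⟨hfin, -, hTi, hJi⟩ := field_iff k X x
  haveI := hfin
  haveI hreg : IsRegularLocalRing (X.presheaf.stalk x) :=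
    SmoothReg.isRegularLocalRing_stalk_of_mem_smoothLocus _ hs
  have hJ : JTop (X ↘ Spec (CommRingCat.of k)) x :=
    hJi.2 ((fitt1_eq_top_iff (residue_bijective k X hx)).2
      ((finrank_cast_eq_dim_iff ((fibreDim_iff k X hx _).1 hd)).1 hreg))
  haveI : LocCoh.IsGorensteinLocalRing (X.presheaf.stalk x) :=
    LC.gorenstein_of_isRegularLocalRing (R := X.presheaf.stalk x)
  exact ⟨⟨⟨(cm_iff k X x).2 LC.isCohenMacaulayLocalRing_of_gorenstein, hd⟩, T_of_jTop hJ⟩, hJ⟩

theorem qPt_of_odp (hx : IsClosed ({x} : Set X)) (h : Curv2.IsOrdDoublePt k (X.presheaf.stalk x)) :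
    QPt (X ↘ Spec (CommRingCat.of k)) x ∧ ¬ JTop (X ↘ Spec (CommRingCat.of k)) x := by
  haveI : IsLocallyNoetherian X := LocallyOfFiniteType.isLocallyNoetherian (X ↘ Spec (CommRingCat.of k))
  obtain ⟨hfin, -, hTi, hJi⟩ := field_iff k X x
  haveI := hfin
  have hres := residue_bijective k X hx
  obtain ⟨hJ, -, u, v, hm, huv, hreg⟩ := ordDoublePt_props hres h
  let A := X.presheaf.stalk x
  have hd : ringKrullDim A = ((1 : ℕ) : WithBot ℕ∞) := by
    rw [ringKrullDim_of_pair hm huv hreg]; rfl
  have hne : ¬ JTop (X ↘ Spec (CommRingCat.of k)) x := fun h => by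
    rw [hJi, hJ] at h
    exact (maximalIdeal.isMaximal A).ne_top h
  refine ⟨⟨⟨(cm_iff k X x).2 ⟨?_⟩, (fibreDim_iff k X hx _).2 hd⟩, hTi.2 ?_⟩, hne⟩
  · refine le_antisymm ?_ (LC.depth_le_supportDim _)
    rw [Module.supportDim_self_eq_ringKrullDim, hd]
    have huvm : u + v ∈ maximalIdeal A := by
      rw [hm]
      exact Ideal.add_mem _ (Ideal.subset_span (by simp)) (Ideal.subset_span (by simp))
    exact WithBot.coe_le_coe.2 (PlanarExt.one_le_depth_of_regular huvm
      (fun a b hab => (mul_cancel_left_mem_nonZeroDivisors hreg).1 hab))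
  · rw [TR, eq_top_iff, ← KaehlerDifferential.span_range_derivation, Submodule.span_le]
    rintro _ ⟨s, rfl⟩
    obtain ⟨c, hc⟩ := exists_const hres s
    refine Submodule.mem_sup_left (Submodule.subset_span ⟨s - algebraMap k A c, hJ ▸ hc, ?_⟩)
    rw [map_sub, Derivation.map_algebraMap, sub_zero]

end Groth.Agent.NodalLib
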