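import Groth.Agent.NodalLib.Crit
import Groth.Agent.FittX.Crit
import Mathlib.RingTheory.Ideal.Cotangent
import Mathlib.RingTheory.Kaehler.Basic
import Mathlib.LinearAlgebra.Matrix.Determinant.Basic

/-!
# Differentials of a local ring at a rational point, and its first Fitting ideal
-/

set_option autoImplicit false
set_option linter.unusedSectionVars false
set_option linter.style.haveILetI false

universe u

open IsLocalRing Module

namespace Groth.Agent.NodalLib

theorem det_mem_pow {A : Type u} [CommRing A] (I : Ideal A) {m : ℕ} (M : Matrix (Fin m) (Fin m) A)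
    (h : ∀ i j, M i j ∈ I) : M.det ∈ I ^ m := by
  rw [Matrix.det_apply]
  refine Ideal.sum_mem _ fun σ _ => ?_
  rw [Units.smul_def, zsmul_eq_mul]
  refine Ideal.mul_mem_left _ _ ?_
  have := Ideal.prod_mem_prod (s := (Finset.univ : Finset (Fin m))) (I := fun _ => I) (x := fun i => M (σ i) i)
    fun i _ => h _ _
  simpa using this

theorem derivation_mem_pow_smul {R P M : Type u} [CommRing R] [CommRing P] [Algebra R P] [AddCommGroup M]
    [Module R M] [Module P M] (D : Derivation R P M) (I : Ideal P) :
    ∀ (n : ℕ) {r : P}, r ∈ I ^ (n + 1) → D r ∈ I ^ n • (⊤ : Submodule P M) := by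
  intro n
  induction n with
  | zero => intro r _; simp
  | succ n ih =>
    intro r hr
    rw [pow_succ] at hr
    induction hr using Submodule.mul_induction_on' with
    | mem_mul_mem a ha b hb =>
      rw [Derivation.leibniz]
      refine Submodule.add_mem _ (Submodule.smul_mem_smul ha trivial) ?_
      have := Submodule.smul_mem_smul hb (ih ha)
      rwa [← mul_smul, ← pow_succ'] at this
    | add x _ y _ hx hy => rw [map_add]; exact Submodule.add_mem _ hx hy

variable {k A : Type u} [Field k] [CommRing A] [IsLocalRing A] [IsNoetherianRing A] [Algebra k A]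

/-- The constant term at a rational point. -/
theorem exists_const (hres : Function.Bijective (algebraMap k (ResidueField A))) (s : A) :
    ∃ c : k, s - algebraMap k A c ∈ maximalIdeal A := by
  obtain ⟨c, hc⟩ := hres.2 (residue A s)
  refine ⟨c, (residue_eq_zero_iff _).1 ?_⟩
  rw [map_sub, ← hc, sub_eq_zero]
  exact (IsScalarTower.algebraMap_apply k A (ResidueField A) c)

theorem const_eq_zero {c : k} (h : algebraMap k A c ∈ maximalIdeal A) : c = 0 := by
  by_contra hc
  exact (mem_maximalIdeal _).1 h ((IsUnit.mk0 c hc).map _)

/-- A linear functional on the cotangent space is the restriction of a derivation. -/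
theorem exists_derivation (hres : Function.Bijective (algebraMap k (ResidueField A)))
    (φ : CotangentSpace A →ₗ[ResidueField A] ResidueField A) :
    ∃ D : Derivation k A (ResidueField A),
      ∀ s : maximalIdeal A, D s = φ ((maximalIdeal A).toCotangent s) := by
  choose c hc using exists_const hres
  let f : maximalIdeal A →ₗ[A] ResidueField A := (φ.restrictScalars A).comp (maximalIdeal A).toCotangent
  have huniq : ∀ (s : A) (d : k), s - algebraMap k A d ∈ maximalIdeal A → d = c s := fun s d hd => by
    refine sub_eq_zero.1 (const_eq_zero (A := A) ?_)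
    rw [map_sub]
    have := (maximalIdeal A).sub_mem (hc s) hd
    rwa [sub_sub_sub_cancel_left] at this
  let π : A → maximalIdeal A := fun s => ⟨s - algebraMap k A (c s), hc s⟩
  have hadd : ∀ s t, π (s + t) = π s + π t := fun s t => by
    have h := (maximalIdeal A).add_mem (hc s) (hc t)
    have e : s - algebraMap k A (c s) + (t - algebraMap k A (c t)) =
        s + t - algebraMap k A (c s + c t) := by rw [map_add]; abel
    rw [e] at h
    refine Subtype.ext ?_
    show s + t - algebraMap k A (c (s + t)) = _
    rw [← huniq _ _ h, ← e]
    rfl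
  have hsmul : ∀ (r : k) s, π (r • s) = algebraMap k A r • π s := fun r s => by
    have h := (maximalIdeal A).mul_mem_left (algebraMap k A r) (hc s)
    rw [mul_sub, ← Algebra.smul_def, ← map_mul] at h
    refine Subtype.ext ?_
    show r • s - algebraMap k A (c (r • s)) = algebraMap k A r * (s - algebraMap k A (c s))
    rw [← huniq _ _ h, map_mul, mul_sub, Algebra.smul_def]
  have hcs : ∀ (s : A) (v : ResidueField A), algebraMap k A (c s) • v = s • v := fun s v => by
    rw [Algebra.smul_def, Algebra.smul_def, ResidueField.algebraMap_eq]
    congr 1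
    refine (sub_eq_zero.1 ?_).symm
    rw [← map_sub]
    exact (residue_eq_zero_iff _).2 (hc s)
  have hmul : ∀ s t, f (π (s * t)) = s • f (π t) + t • f (π s) := fun s t => by
    have h : s * t - algebraMap k A (c s * c t) ∈ maximalIdeal A := by
      have := (maximalIdeal A).add_mem ((maximalIdeal A).mul_mem_right t (hc s))
        ((maximalIdeal A).mul_mem_left (algebraMap k A (c s)) (hc t))
      convert this using 1
      rw [map_mul]; ring
    have e : π (s * t) = algebraMap k A (c s) • π t + algebraMap k A (c t) • π s +
        (π s : A) • π t := by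
      refine Subtype.ext ?_
      show s * t - algebraMap k A (c (s * t)) = algebraMap k A (c s) * (t - algebraMap k A (c t)) +
        algebraMap k A (c t) * (s - algebraMap k A (c s)) + (s - algebraMap k A (c s)) * (t - algebraMap k A (c t))
      rw [← huniq _ _ h, map_mul]; ring
    have h0 : ∀ v : ResidueField A, (π s : A) • v = 0 := fun v => by
      rw [Algebra.smul_def, ResidueField.algebraMap_eq, (residue_eq_zero_iff _).2 (π s).2, zero_mul]
    rw [e, map_add, map_add, map_smul, map_smul, map_smul, hcs, hcs, h0, add_zero]
  let L : A →ₗ[k] ResidueField A :=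
    { toFun := fun s => f (π s)
      map_add' := fun s t => by rw [hadd, map_add]
      map_smul' := fun r s => by rw [hsmul, map_smul, algebraMap_smul]; rfl }
  refine ⟨Derivation.mk' L hmul, fun s => ?_⟩
  show f (π s) = f s
  congr 1
  refine Subtype.ext ?_
  show (s : A) - algebraMap k A (c s) = s
  rw [← huniq (s : A) 0 (by simp), map_zero, sub_zero]

theorem span_D_eq_top (hres : Function.Bijective (algebraMap k (ResidueField A)))
    [Module.Finite A Ω[A⁄k]] {n : ℕ} (x : Fin n → A) (hx : Ideal.span (Set.range x) = maximalIdeal A) :
    Submodule.span A (Set.range fun i => KaehlerDifferential.D k A (x i)) = ⊤ := by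
  set N := Submodule.span A (Set.range fun i => KaehlerDifferential.D k A (x i))
  refine top_le_iff.1 (Submodule.le_of_le_smul_of_le_jacobson_bot Module.Finite.fg_top
    (jacobson_eq_maximalIdeal ⊥ bot_ne_top).ge ?_)
  rw [← KaehlerDifferential.span_range_derivation, Submodule.span_le]
  rintro _ ⟨s, rfl⟩
  obtain ⟨c, hc⟩ := exists_const hres s
  have : KaehlerDifferential.D k A s = KaehlerDifferential.D k A (s - algebraMap k A c) := by
    rw [map_sub, Derivation.map_algebraMap, sub_zero]
  rw [this, KaehlerDifferential.span_range_derivation]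
  generalize s - algebraMap k A c = m at hc
  rw [← hx] at hc
  induction hc using Submodule.span_induction with
  | mem y hy =>
    obtain ⟨i, rfl⟩ := hy
    exact Submodule.mem_sup_left (Submodule.subset_span ⟨i, rfl⟩)
  | zero => simp
  | add y z _ _ hy hz => rw [map_add]; exact Submodule.add_mem _ hy hz
  | smul a y hy' hy =>
    rw [smul_eq_mul, Derivation.leibniz]
    exact Submodule.add_mem _ (Submodule.smul_mem _ _ hy)
      (Submodule.mem_sup_right (Submodule.smul_mem_smul (hx ▸ hy') trivial))

/-- Generators of the maximal ideal lifting a basis of the cotangent space. -/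
theorem exists_gens :
    ∃ x : Fin (finrank (ResidueField A) (CotangentSpace A)) → maximalIdeal A,
      Ideal.span (Set.range fun i => (x i : A)) = maximalIdeal A ∧
      ∃ b : Basis (Fin (finrank (ResidueField A) (CotangentSpace A))) (ResidueField A) (CotangentSpace A),
        ∀ i, (maximalIdeal A).toCotangent (x i) = b i := by
  let b := Module.finBasis (ResidueField A) (CotangentSpace A)
  choose x hx using fun i => (maximalIdeal A).toCotangent_surjective (b i)
  refine ⟨x, ?_, b, hx⟩
  have h : Submodule.span (ResidueField A) ((maximalIdeal A).toCotangent '' Set.range x) = ⊤ := by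
    rw [← Set.range_comp, ← b.span_eq]
    congr 2
    exact funext hx
  rw [CotangentSpace.span_image_eq_top_iff] at h
  have h2 := congrArg (Submodule.map (maximalIdeal A).subtype) h
  rw [Submodule.map_span, Submodule.map_top, Submodule.range_subtype, ← Set.range_comp] at h2
  exact h2

/-- At a rational point the relations among the differentials of minimal generators have entries
in the maximal ideal. -/
theorem rel_mem (hres : Function.Bijective (algebraMap k (ResidueField A))) {n : ℕ}
    (x : Fin n → maximalIdeal A)
    (b : Basis (Fin n) (ResidueField A) (CotangentSpace A))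
    (hb : ∀ i, (maximalIdeal A).toCotangent (x i) = b i)
    {z : Fin n → A} (hz : z ∈ FittX.rel (R := A) (fun i => KaehlerDifferential.D k A (x i : A))) (i : Fin n) :
    z i ∈ maximalIdeal A := by
  classical
  obtain ⟨D, hD⟩ := exists_derivation hres (b.coord i)
  have h := congrArg D.liftKaehlerDifferential (FittX.mem_rel.1 hz)
  simp only [map_sum, map_smul, map_zero, Derivation.liftKaehlerDifferential_comp_D] at h
  rw [Finset.sum_eq_single i] at h
  · rw [hD, hb, Basis.coord_apply, Basis.repr_self, Finsupp.single_eq_same, Algebra.smul_def, mul_one] at h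
    exact (residue_eq_zero_iff _).1 h
  · intro j _ hj
    rw [hD, hb, Basis.coord_apply, Basis.repr_self, Finsupp.single_eq_of_ne hj.symm, smul_zero]
  · exact fun hc => absurd (Finset.mem_univ _) hc

theorem fitt1_le_pow (hres : Function.Bijective (algebraMap k (ResidueField A))) [Module.Finite A Ω[A⁄k]] :
    fitt1 k A ≤ maximalIdeal A ^ (finrank (ResidueField A) (CotangentSpace A) - 1) := by
  obtain ⟨x, hx, b, hb⟩ := exists_gens (A := A)
  rw [fitt1, FittX.ideal_eq_minors _ (span_D_eq_top hres _ hx), FittX.minors_rel_eq_span, Ideal.span_le]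
  rintro d ⟨z, e, hz, rfl⟩
  exact det_mem_pow _ _ fun i j => rel_mem hres x b hb (hz i) (e j)

theorem fitt1_eq_top_iff (hres : Function.Bijective (algebraMap k (ResidueField A))) [Module.Finite A Ω[A⁄k]] :
    fitt1 k A = ⊤ ↔ finrank (ResidueField A) (CotangentSpace A) ≤ 1 := by
  constructor
  · intro h
    by_contra hn
    have := (fitt1_le_pow hres).trans (Ideal.pow_le_self (by omega))
    rw [h, top_le_iff] at this
    exact (maximalIdeal.isMaximal A).ne_top this
  · intro hn
    obtain ⟨x, hx, -⟩ := exists_gens (A := A)
    exact FittX.ideal_eq_top_of_gen _ (span_D_eq_top hres _ hx) hn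

theorem finrank_eq_two (hres : Function.Bijective (algebraMap k (ResidueField A))) [Module.Finite A Ω[A⁄k]]
    (h : fitt1 k A = maximalIdeal A) : finrank (ResidueField A) (CotangentSpace A) = 2 := by
  have h1 : ¬ finrank (ResidueField A) (CotangentSpace A) ≤ 1 := fun hn => by
    rw [(fitt1_eq_top_iff hres).2 hn] at h
    exact (maximalIdeal.isMaximal A).ne_top h.symm
  by_contra h2
  have hle : maximalIdeal A ≤ maximalIdeal A ^ 2 := by
    conv_lhs => rw [← h]
    exact (fitt1_le_pow hres).trans (Ideal.pow_le_pow_right (by omega))
  have hbot : maximalIdeal A ≤ ⊥ := Submodule.le_of_le_smul_of_le_jacobson_bot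
    (IsNoetherian.noetherian _) (jacobson_eq_maximalIdeal ⊥ bot_ne_top).ge
    (by rw [bot_sup_eq, smul_eq_mul, ← sq]; exact hle)
  refine h1 (le_trans (le_of_eq ?_) zero_le_one)
  rw [finrank_cotangentSpace_eq_zero_iff, isField_iff_maximalIdeal_eq]
  exact le_bot_iff.1 hbot

end Groth.Agent.NodalLib
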