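import Groth.Agent.NodalLib.Bc
import Groth.Agent.CurvOpenLib.GenLocus
import Mathlib.AlgebraicGeometry.Morphisms.Etale
import Mathlib.AlgebraicGeometry.Morphisms.FinitePresentation
import Mathlib.AlgebraicGeometry.Morphisms.Flat
import Mathlib.RingTheory.Unramified.Basic
import Mathlib.RingTheory.Spectrum.Prime.Topology

/-!
# The singular ideal of a morphism locally of finite presentation, point by point
-/

set_option autoImplicit false
set_option linter.unusedSectionVars false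
set_option linter.style.haveILetI false
set_option backward.isDefEq.respectTransparency false
set_option backward.isDefEq.respectTransparency.types false

universe u

open CategoryTheory CategoryTheory.Limits AlgebraicGeometry

namespace Groth.Agent.NodalLib

theorem IsBC.of_unramified_etale (R R' A A' : Type u) [CommRing R] [CommRing R'] [CommRing A] [CommRing A']
    [Algebra R R'] [Algebra R A] [Algebra A A'] [Algebra R' A'] [Algebra R A']
    [IsScalarTower R A A'] [IsScalarTower R R' A'] [Algebra.FormallyUnramified R R']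
    [Algebra.FormallyEtale A A'] : IsBC R R' A A' :=
  IsBC.comp (IsBC.of_formallyEtale R A A') (IsBC.of_formallyUnramified R R' A')

variable {X Y X' Y' Z : Scheme.{u}}

/-- The singular locus is unramified at `x`. -/
def T (f : X ⟶ Y) (x : X) : Prop :=
  letI := (f.stalkMap x).hom.toAlgebra
  TR (Y.presheaf.stalk (f x)) (X.presheaf.stalk x)

/-- The singular ideal is the unit ideal at `x`. -/
def JTop (f : X ⟶ Y) (x : X) : Prop :=
  letI := (f.stalkMap x).hom.toAlgebra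
  fitt1 (Y.presheaf.stalk (f x)) (X.presheaf.stalk x) = ⊤

theorem T_of_jTop {f : X ⟶ Y} {x : X} (h : JTop f x) : T f x := by
  exact @tR_of_fitt1_eq_top _ _ _ _ (f.stalkMap x).hom.toAlgebra h

theorem appLE_germ (f : X ⟶ Y) {U : Y.Opens} {V : X.Opens} (e : V ≤ f ⁻¹ᵁ U) (x : X) (hx : x ∈ V) :
    f.appLE U V e ≫ X.presheaf.germ V x hx = Y.presheaf.germ U (f x) (e hx) ≫ f.stalkMap x := by
  rw [Scheme.Hom.germ_stalkMap, Scheme.Hom.appLE, Category.assoc, TopCat.Presheaf.germ_res]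

/-- A commutative square of affine charts along which differentials base change. -/
def SquareBC (f : X ⟶ Y) (q : X' ⟶ Y') (p : X' ⟶ X) (g : Y' ⟶ Y) (U : Y.Opens) (V : X.Opens)
    (U' : Y'.Opens) (V' : X'.Opens) (e : V ≤ f ⁻¹ᵁ U) (e' : V' ≤ q ⁻¹ᵁ U') (eg : U' ≤ g ⁻¹ᵁ U)
    (ep : V' ≤ p ⁻¹ᵁ V) (w : p ≫ f = q ≫ g) : Prop :=
  letI := (f.appLE U V e).hom.toAlgebra
  letI := (q.appLE U' V' e').hom.toAlgebra
  letI := (g.appLE U U' eg).hom.toAlgebra
  letI := (p.appLE V V' ep).hom.toAlgebra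
  letI := (f.appLE U V e ≫ p.appLE V V' ep).hom.toAlgebra
  haveI : IsScalarTower Γ(Y, U) Γ(X, V) Γ(X', V') := IsScalarTower.of_algebraMap_eq' rfl
  haveI : IsScalarTower Γ(Y, U) Γ(Y', U') Γ(X', V') := IsScalarTower.of_algebraMap_eq' (by
    show (f.appLE U V e ≫ p.appLE V V' ep).hom = (g.appLE U U' eg ≫ q.appLE U' V' e').hom
    simp only [Scheme.Hom.appLE_comp_appLE, w])
  IsBC Γ(Y, U) Γ(Y', U') Γ(X, V) Γ(X', V')

theorem squareBC_of_etale {f : X ⟶ Y} {q : X' ⟶ Y'} {p : X' ⟶ X} {g : Y' ⟶ Y} {U : Y.Opens} {V : X.Opens}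
    {U' : Y'.Opens} {V' : X'.Opens} {e : V ≤ f ⁻¹ᵁ U} {e' : V' ≤ q ⁻¹ᵁ U'} {eg : U' ≤ g ⁻¹ᵁ U}
    {ep : V' ≤ p ⁻¹ᵁ V} {w : p ≫ f = q ≫ g}
    (hg : (g.appLE U U' eg).hom.Etale) (hp : (p.appLE V V' ep).hom.Etale) :
    SquareBC f q p g U V U' V' e e' eg ep w := by
  letI := (f.appLE U V e).hom.toAlgebra
  letI := (q.appLE U' V' e').hom.toAlgebra
  letI := (g.appLE U U' eg).hom.toAlgebra
  letI := (p.appLE V V' ep).hom.toAlgebra
  letI := (f.appLE U V e ≫ p.appLE V V' ep).hom.toAlgebra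
  haveI : IsScalarTower Γ(Y, U) Γ(X, V) Γ(X', V') := IsScalarTower.of_algebraMap_eq' rfl
  haveI : IsScalarTower Γ(Y, U) Γ(Y', U') Γ(X', V') := IsScalarTower.of_algebraMap_eq' (by
    show (f.appLE U V e ≫ p.appLE V V' ep).hom = (g.appLE U U' eg ≫ q.appLE U' V' e').hom
    simp only [Scheme.Hom.appLE_comp_appLE, w])
  haveI : Algebra.Etale Γ(Y, U) Γ(Y', U') := hg
  haveI : Algebra.Etale Γ(X, V) Γ(X', V') := hp
  exact IsBC.of_unramified_etale Γ(Y, U) Γ(Y', U') Γ(X, V) Γ(X', V')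

theorem squareBC_of_isPullback {f : X ⟶ Y} {q : X' ⟶ Y'} {p : X' ⟶ X} {g : Y' ⟶ Y}
    (sq : IsPullback p q f g) {U : Y.Opens} (hU : IsAffineOpen U) {V : X.Opens} (hV : IsAffineOpen V)
    {U' : Y'.Opens} (hU' : IsAffineOpen U') (e : V ≤ f ⁻¹ᵁ U) (eg : U' ≤ g ⁻¹ᵁ U) :
    IsAffineOpen (p ⁻¹ᵁ V ⊓ q ⁻¹ᵁ U') ∧
    SquareBC f q p g U V U' (p ⁻¹ᵁ V ⊓ q ⁻¹ᵁ U') e inf_le_right eg inf_le_left sq.w := by
  haveI : IsAffine _ := hU
  haveI : IsAffine _ := hV
  haveI : IsAffine _ := hU'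
  refine ⟨.of_isIso (Scheme.Hom.isPullback_resLE sq eg e (UY := p ⁻¹ᵁ V ⊓ q ⁻¹ᵁ U') rfl).isoPullback.hom, ?_⟩
  have hpo := (isIso_pushoutSection_iff sq eg e (UY := p ⁻¹ᵁ V ⊓ q ⁻¹ᵁ U') rfl).1
    (isIso_pushoutSection_of_isAffineOpen sq eg e rfl hU hU' hV)
  set V' := p ⁻¹ᵁ V ⊓ q ⁻¹ᵁ U'
  letI := (f.appLE U V e).hom.toAlgebra
  letI := (q.appLE U' V' inf_le_right).hom.toAlgebra
  letI := (g.appLE U U' eg).hom.toAlgebra
  letI := (p.appLE V V' inf_le_left).hom.toAlgebra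
  letI := (f.appLE U V e ≫ p.appLE V V' inf_le_left).hom.toAlgebra
  haveI : IsScalarTower Γ(Y, U) Γ(X, V) Γ(X', V') := IsScalarTower.of_algebraMap_eq' rfl
  haveI : IsScalarTower Γ(Y, U) Γ(Y', U') Γ(X', V') := IsScalarTower.of_algebraMap_eq' (by
    show (f.appLE U V e ≫ p.appLE V V' inf_le_left).hom = (g.appLE U U' eg ≫ q.appLE U' V' inf_le_right).hom
    simp only [Scheme.Hom.appLE_comp_appLE, sq.w])
  haveI : Algebra.IsPushout Γ(Y, U) Γ(Y', U') Γ(X, V) Γ(X', V') :=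
    CommRingCat.isPushout_iff_isPushout.1 hpo.flip
  exact IsBC.of_pushout Γ(Y, U) Γ(Y', U') Γ(X, V) Γ(X', V')

/-- Comparison of `T` and `JTop` along a square of charts. -/
theorem transfer {f : X ⟶ Y} {q : X' ⟶ Y'} {p : X' ⟶ X} {g : Y' ⟶ Y} {U : Y.Opens} (hU : IsAffineOpen U)
    {V : X.Opens} (hV : IsAffineOpen V) {U' : Y'.Opens} (hU' : IsAffineOpen U') {V' : X'.Opens}
    (hV' : IsAffineOpen V') (e : V ≤ f ⁻¹ᵁ U) (e' : V' ≤ q ⁻¹ᵁ U') (eg : U' ≤ g ⁻¹ᵁ U)
    (ep : V' ≤ p ⁻¹ᵁ V) (w : p ≫ f = q ≫ g) (hfin : (f.appLE U V e).hom.FiniteType)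
    (hbc : SquareBC f q p g U V U' V' e e' eg ep w) (x' : X') (hx' : x' ∈ V') :
    ((T q x' ↔ T f (p x')) ∧ (JTop q x' ↔ JTop f (p x'))) := by
  letI := (f.appLE U V e).hom.toAlgebra
  letI := (q.appLE U' V' e').hom.toAlgebra
  letI := (g.appLE U U' eg).hom.toAlgebra
  letI := (p.appLE V V' ep).hom.toAlgebra
  letI := (f.appLE U V e ≫ p.appLE V V' ep).hom.toAlgebra
  haveI : IsScalarTower Γ(Y, U) Γ(X, V) Γ(X', V') := IsScalarTower.of_algebraMap_eq' rfl
  haveI : IsScalarTower Γ(Y, U) Γ(Y', U') Γ(X', V') := IsScalarTower.of_algebraMap_eq' (by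
    show (f.appLE U V e ≫ p.appLE V V' ep).hom = (g.appLE U U' eg ≫ q.appLE U' V' e').hom
    simp only [Scheme.Hom.appLE_comp_appLE, w])
  haveI : Algebra.FiniteType Γ(Y, U) Γ(X, V) := hfin
  have hx : p x' ∈ V := ep hx'
  have hy : f (p x') ∈ U := e hx
  have hy' : q x' ∈ U' := e' hx'
  -- the chart of `f` at `p x'`
  letI := (Y.presheaf.germ U (f (p x')) hy).hom.toAlgebra
  letI := (X.presheaf.germ V (p x') hx).hom.toAlgebra
  letI := (f.stalkMap (p x')).hom.toAlgebra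
  letI := (f.appLE U V e ≫ X.presheaf.germ V (p x') hx).hom.toAlgebra
  haveI : IsLocalization.AtPrime (Y.presheaf.stalk (f (p x'))) (hU.primeIdealOf ⟨_, hy⟩).asIdeal :=
    hU.isLocalization_stalk ⟨_, hy⟩
  haveI : IsLocalization.AtPrime (X.presheaf.stalk (p x')) (hV.primeIdealOf ⟨_, hx⟩).asIdeal :=
    hV.isLocalization_stalk ⟨_, hx⟩
  haveI : Algebra.FormallyUnramified Γ(Y, U) (Y.presheaf.stalk (f (p x'))) :=
    Algebra.FormallyUnramified.of_isLocalization (hU.primeIdealOf ⟨_, hy⟩).asIdeal.primeCompl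
  haveI : Algebra.FormallyEtale Γ(X, V) (X.presheaf.stalk (p x')) :=
    Algebra.FormallyEtale.of_isLocalization (hV.primeIdealOf ⟨_, hx⟩).asIdeal.primeCompl
  haveI : IsScalarTower Γ(Y, U) Γ(X, V) (X.presheaf.stalk (p x')) := IsScalarTower.of_algebraMap_eq' rfl
  haveI : IsScalarTower Γ(Y, U) (Y.presheaf.stalk (f (p x'))) (X.presheaf.stalk (p x')) :=
    IsScalarTower.of_algebraMap_eq' (by
      show (f.appLE U V e ≫ X.presheaf.germ V (p x') hx).hom =
        (Y.presheaf.germ U (f (p x')) hy ≫ f.stalkMap (p x')).hom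
      rw [Scheme.Hom.germ_stalkMap, Scheme.Hom.appLE, Category.assoc, TopCat.Presheaf.germ_res])
  have hf := IsBC.of_unramified_etale Γ(Y, U) (Y.presheaf.stalk (f (p x'))) Γ(X, V) (X.presheaf.stalk (p x'))
  -- the chart of `q` at `x'`
  letI := (Y'.presheaf.germ U' (q x') hy').hom.toAlgebra
  letI := (X'.presheaf.germ V' x' hx').hom.toAlgebra
  letI := (q.stalkMap x').hom.toAlgebra
  letI := (q.appLE U' V' e' ≫ X'.presheaf.germ V' x' hx').hom.toAlgebra
  haveI : IsLocalization.AtPrime (Y'.presheaf.stalk (q x')) (hU'.primeIdealOf ⟨_, hy'⟩).asIdeal :=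
    hU'.isLocalization_stalk ⟨_, hy'⟩
  haveI : IsLocalization.AtPrime (X'.presheaf.stalk x') (hV'.primeIdealOf ⟨_, hx'⟩).asIdeal :=
    hV'.isLocalization_stalk ⟨_, hx'⟩
  haveI : Algebra.FormallyUnramified Γ(Y', U') (Y'.presheaf.stalk (q x')) :=
    Algebra.FormallyUnramified.of_isLocalization (hU'.primeIdealOf ⟨_, hy'⟩).asIdeal.primeCompl
  haveI : Algebra.FormallyEtale Γ(X', V') (X'.presheaf.stalk x') :=
    Algebra.FormallyEtale.of_isLocalization (hV'.primeIdealOf ⟨_, hx'⟩).asIdeal.primeCompl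
  haveI : IsScalarTower Γ(Y', U') Γ(X', V') (X'.presheaf.stalk x') := IsScalarTower.of_algebraMap_eq' rfl
  haveI : IsScalarTower Γ(Y', U') (Y'.presheaf.stalk (q x')) (X'.presheaf.stalk x') :=
    IsScalarTower.of_algebraMap_eq' (by
      show (q.appLE U' V' e' ≫ X'.presheaf.germ V' x' hx').hom =
        (Y'.presheaf.germ U' (q x') hy' ≫ q.stalkMap x').hom
      rw [Scheme.Hom.germ_stalkMap, Scheme.Hom.appLE, Category.assoc, TopCat.Presheaf.germ_res])
  have hq := IsBC.of_unramified_etale Γ(Y', U') (Y'.presheaf.stalk (q x')) Γ(X', V') (X'.presheaf.stalk x')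
  -- composition
  letI := (g.appLE U U' eg ≫ Y'.presheaf.germ U' (q x') hy').hom.toAlgebra
  letI := (p.appLE V V' ep ≫ X'.presheaf.germ V' x' hx').hom.toAlgebra
  letI := ((f.appLE U V e ≫ p.appLE V V' ep) ≫ X'.presheaf.germ V' x' hx').hom.toAlgebra
  haveI : IsScalarTower Γ(Y, U) Γ(X, V) (X'.presheaf.stalk x') := IsScalarTower.of_algebraMap_eq' (by
    show ((f.appLE U V e ≫ p.appLE V V' ep) ≫ X'.presheaf.germ V' x' hx').hom = _
    rw [Category.assoc]; rfl)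
  haveI : IsScalarTower Γ(X, V) Γ(X', V') (X'.presheaf.stalk x') := IsScalarTower.of_algebraMap_eq' rfl
  haveI : IsScalarTower Γ(Y, U) (Y'.presheaf.stalk (q x')) (X'.presheaf.stalk x') :=
    IsScalarTower.of_algebraMap_eq' (by
      show ((f.appLE U V e ≫ p.appLE V V' ep) ≫ X'.presheaf.germ V' x' hx').hom =
        ((g.appLE U U' eg ≫ Y'.presheaf.germ U' (q x') hy') ≫ q.stalkMap x').hom
      rw [Category.assoc (g.appLE U U' eg), ← appLE_germ q e' x' hx', ← Category.assoc (g.appLE U U' eg),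
        Scheme.Hom.appLE_comp_appLE, Scheme.Hom.appLE_comp_appLE]
      simp only [w])
  have hcomp : IsBC Γ(Y, U) (Y'.presheaf.stalk (q x')) Γ(X, V) (X'.presheaf.stalk x') := IsBC.comp hbc hq
  have hcl : PrimeSpectrum.comap (algebraMap Γ(X, V) (X'.presheaf.stalk x'))
        (IsLocalRing.closedPoint (X'.presheaf.stalk x')) =
      PrimeSpectrum.comap (algebraMap Γ(X, V) (X.presheaf.stalk (p x')))
        (IsLocalRing.closedPoint (X.presheaf.stalk (p x'))) := by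
    have h : algebraMap Γ(X, V) (X'.presheaf.stalk x') =
        (p.stalkMap x').hom.comp (algebraMap Γ(X, V) (X.presheaf.stalk (p x'))) := by
      show (p.appLE V V' ep ≫ X'.presheaf.germ V' x' hx').hom =
        (X.presheaf.germ V (p x') hx ≫ p.stalkMap x').hom
      rw [Scheme.Hom.germ_stalkMap, Scheme.Hom.appLE, Category.assoc, TopCat.Presheaf.germ_res]
    rw [h, PrimeSpectrum.comap_comp_apply, IsLocalRing.comap_closedPoint]
  constructor
  · unfold T
    rw [hcomp.tR_iff_notMem_support, hf.tR_iff_notMem_support, hcl]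
  · unfold JTop
    rw [hcomp.fitt1_eq_top_iff, hf.fitt1_eq_top_iff, hcl]

end Groth.Agent.NodalLib
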