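import Groth.Agent.NodalLib.Point
import Groth.Agent.CurvOpenLib.Inst

/-!
# The nodal criterion as a pointwise property of flat finitely presented morphisms
-/

set_option autoImplicit false
set_option linter.unusedSectionVars false
set_option linter.style.haveILetI false
set_option backward.isDefEq.respectTransparency false
set_option backward.isDefEq.respectTransparency.types false

universe u

open CategoryTheory CategoryTheory.Limits AlgebraicGeometry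

namespace Groth.Agent.NodalLib

variable {X Y X' Y' Z : Scheme.{u}}

/-- The nodal criterion: Cohen–Macaulay of relative dimension one with unramified singular locus. -/
def QPt (f : X ⟶ Y) (x : X) : Prop :=
  (MoreMor.IsCMAt f x ∧ FlatMor.fibreDimAt f x = (1 : ℕ)) ∧ T f x

theorem exists_chart (f : X ⟶ Y) {x : X} {W : X.Opens} (hW : x ∈ W) {W₀ : Y.Opens} (hW₀ : f x ∈ W₀) :
    ∃ U : Y.Opens, IsAffineOpen U ∧ f x ∈ U ∧ U ≤ W₀ ∧
      ∃ V : X.Opens, IsAffineOpen V ∧ x ∈ V ∧ V ≤ W ∧ V ≤ f ⁻¹ᵁ U := by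
  obtain ⟨U, hU, hxU, hUW⟩ := exists_isAffineOpen_mem_and_subset hW₀
  obtain ⟨V, hV, hxV, hVU⟩ := exists_isAffineOpen_mem_and_subset (show x ∈ W ⊓ f ⁻¹ᵁ U from ⟨hW, hxU⟩)
  exact ⟨U, hU, hxU, hUW, V, hV, hxV, fun z hz => (hVU hz).1, fun z hz => (hVU hz).2⟩

theorem finiteType_appLE (f : X ⟶ Y) [LocallyOfFiniteType f] {U : Y.Opens} (hU : IsAffineOpen U) {V : X.Opens}
    (hV : IsAffineOpen V) (e : V ≤ f ⁻¹ᵁ U) : (f.appLE U V e).hom.FiniteType :=
  HasRingHomProperty.appLE @LocallyOfFiniteType f inferInstance ⟨U, hU⟩ ⟨V, hV⟩ e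

theorem etale_appLE (f : X ⟶ Y) [Etale f] {U : Y.Opens} (hU : IsAffineOpen U) {V : X.Opens}
    (hV : IsAffineOpen V) (e : V ≤ f ⁻¹ᵁ U) : (f.appLE U V e).hom.Etale :=
  HasRingHomProperty.appLE @Etale f inferInstance ⟨U, hU⟩ ⟨V, hV⟩ e

theorem precomp_iff (e : X' ⟶ X) (g : X ⟶ Y) [Etale e] [LocallyOfFiniteType g] (x : X') :
    (T (e ≫ g) x ↔ T g (e x)) ∧ (JTop (e ≫ g) x ↔ JTop g (e x)) := by
  obtain ⟨U, hU, -, -, V, hV, hxV, -, hVU⟩ :=
    exists_chart g (x := e x) (W := ⊤) trivial (W₀ := ⊤) trivial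
  obtain ⟨V', hV', hxV', hV'V⟩ := exists_isAffineOpen_mem_and_subset (show x ∈ e ⁻¹ᵁ V from hxV)
  have e' : V' ≤ (e ≫ g) ⁻¹ᵁ U := fun z hz => hVU (hV'V hz)
  have eg : U ≤ (𝟙 Y) ⁻¹ᵁ U := le_rfl
  exact transfer (f := g) (q := e ≫ g) (p := e) (g := 𝟙 Y) hU hV hU hV' hVU e' eg hV'V
    (by rw [Category.comp_id]) (finiteType_appLE g hU hV hVU)
    (squareBC_of_etale (etale_appLE _ hU hU eg) (etale_appLE e hV hV' hV'V)) x hxV'

theorem postcomp_iff (g : X ⟶ Y) (j : Y ⟶ Z) [LocallyOfFiniteType g] [Etale j] (x : X) :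
    (T (g ≫ j) x ↔ T g x) ∧ (JTop (g ≫ j) x ↔ JTop g x) := by
  obtain ⟨U, hU, hjU, -⟩ := exists_isAffineOpen_mem_and_subset (show j (g x) ∈ (⊤ : Z.Opens) from trivial)
  obtain ⟨U', hU', -, hU'U, V, hV, hxV, -, hVU⟩ :=
    exists_chart g (x := x) (W := ⊤) trivial (W₀ := j ⁻¹ᵁ U) hjU
  have e : V ≤ (g ≫ j) ⁻¹ᵁ U := fun z hz => hU'U (hVU hz)
  have ep : V ≤ (𝟙 X) ⁻¹ᵁ V := le_rfl
  have h := transfer (f := g ≫ j) (q := g) (p := 𝟙 X) (g := j) hU hV hU' hV e hVU hU'U ep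
    (by rw [Category.id_comp]) (finiteType_appLE _ hU hV e)
    (squareBC_of_etale (etale_appLE j hU hU' hU'U) (etale_appLE _ hV hV ep)) x hxV
  exact ⟨h.1.symm, h.2.symm⟩

theorem baseChange_iff {p : X' ⟶ X} {q : X' ⟶ Y'} {f : X ⟶ Y} {g : Y' ⟶ Y} [LocallyOfFiniteType f]
    (sq : IsPullback p q f g) (x' : X') :
    (T q x' ↔ T f (p x')) ∧ (JTop q x' ↔ JTop f (p x')) := by
  obtain ⟨U, hU, hfU, -, V, hV, hxV, -, hVU⟩ :=
    exists_chart f (x := p x') (W := ⊤) trivial (W₀ := ⊤) trivial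
  have hgU : g (q x') ∈ U := by
    rw [← Scheme.Hom.comp_apply, ← sq.w, Scheme.Hom.comp_apply]
    exact hfU
  obtain ⟨U', hU', hqU', hU'U⟩ := exists_isAffineOpen_mem_and_subset (show q x' ∈ g ⁻¹ᵁ U from hgU)
  obtain ⟨hV', hbc⟩ := squareBC_of_isPullback sq hU hV hU' hVU hU'U
  exact transfer hU hV hU' hV' hVU inf_le_right hU'U inf_le_left sq.w (finiteType_appLE f hU hV hVU) hbc x'
    ⟨hxV, hqU'⟩

/-- `T` and `JTop` on an affine chart. -/
theorem chart_iff (f : X ⟶ Y) [LocallyOfFiniteType f] {U : Y.Opens} (hU : IsAffineOpen U) {V : X.Opens}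
    (hV : IsAffineOpen V) (e : V ≤ f ⁻¹ᵁ U) :
    letI := (f.appLE U V e).hom.toAlgebra
    ∀ x (hx : x ∈ V), ((T f x ↔ hV.primeIdealOf ⟨x, hx⟩ ∉ Module.support Γ(X, V) (SingOmega Γ(Y, U) Γ(X, V))) ∧
      (JTop f x ↔ hV.primeIdealOf ⟨x, hx⟩ ∉
        PrimeSpectrum.zeroLocus (fitt1 Γ(Y, U) Γ(X, V) : Set Γ(X, V)))) := by
  letI := (f.appLE U V e).hom.toAlgebra
  intro x hx
  haveI : Algebra.FiniteType Γ(Y, U) Γ(X, V) := finiteType_appLE f hU hV e
  have hy : f x ∈ U := e hx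
  letI := (Y.presheaf.germ U (f x) hy).hom.toAlgebra
  letI := (X.presheaf.germ V x hx).hom.toAlgebra
  letI := (f.stalkMap x).hom.toAlgebra
  letI := (f.appLE U V e ≫ X.presheaf.germ V x hx).hom.toAlgebra
  haveI : IsLocalization.AtPrime (Y.presheaf.stalk (f x)) (hU.primeIdealOf ⟨_, hy⟩).asIdeal :=
    hU.isLocalization_stalk ⟨_, hy⟩
  haveI : IsLocalization.AtPrime (X.presheaf.stalk x) (hV.primeIdealOf ⟨_, hx⟩).asIdeal :=
    hV.isLocalization_stalk ⟨_, hx⟩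
  haveI : Algebra.FormallyUnramified Γ(Y, U) (Y.presheaf.stalk (f x)) :=
    Algebra.FormallyUnramified.of_isLocalization (hU.primeIdealOf ⟨_, hy⟩).asIdeal.primeCompl
  haveI : Algebra.FormallyEtale Γ(X, V) (X.presheaf.stalk x) :=
    Algebra.FormallyEtale.of_isLocalization (hV.primeIdealOf ⟨_, hx⟩).asIdeal.primeCompl
  haveI : IsScalarTower Γ(Y, U) Γ(X, V) (X.presheaf.stalk x) := IsScalarTower.of_algebraMap_eq' rfl
  haveI : IsScalarTower Γ(Y, U) (Y.presheaf.stalk (f x)) (X.presheaf.stalk x) :=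
    IsScalarTower.of_algebraMap_eq' (congrArg CommRingCat.Hom.hom (appLE_germ f e x hx))
  have hf := IsBC.of_unramified_etale Γ(Y, U) (Y.presheaf.stalk (f x)) Γ(X, V) (X.presheaf.stalk x)
  have hcl : PrimeSpectrum.comap (algebraMap Γ(X, V) (X.presheaf.stalk x))
      (IsLocalRing.closedPoint (X.presheaf.stalk x)) = hV.primeIdealOf ⟨x, hx⟩ :=
    PrimeSpectrum.ext (IsLocalization.AtPrime.comap_maximalIdeal (X.presheaf.stalk x)
      (hV.primeIdealOf ⟨x, hx⟩).asIdeal)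
  refine ⟨?_, ?_⟩
  · unfold T
    rw [hf.tR_iff_notMem_support, hcl]
  · unfold JTop
    rw [hf.fitt1_eq_top_iff, hcl]

theorem isOpen_T (f : X ⟶ Y) [LocallyOfFiniteType f] : IsOpen {x | T f x} ∧ IsOpen {x | JTop f x} := by
  constructor <;> rw [isOpen_iff_forall_mem_open] <;> intro x hx <;>
    obtain ⟨U, hU, hfU, -, V, hV, hxV, -, hVU⟩ :=
      exists_chart f (x := x) (W := ⊤) trivial (W₀ := ⊤) trivial
  all_goals
    letI := (f.appLE U V hVU).hom.toAlgebra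
    haveI : Algebra.FiniteType Γ(Y, U) Γ(X, V) := finiteType_appLE f hU hV hVU
    have hsp : ∀ z : V, hV.fromSpec (hV.primeIdealOf z) = z := hV.fromSpec_primeIdealOf
  · refine ⟨hV.fromSpec '' (Module.support Γ(X, V) (SingOmega Γ(Y, U) Γ(X, V)))ᶜ, ?_,
      hV.fromSpec.isOpenEmbedding.isOpenMap _ Module.isClosed_support.isOpen_compl, ?_⟩
    · rintro _ ⟨z, hz, rfl⟩
      have hzV : hV.fromSpec z ∈ V := hV.range_fromSpec.subset ⟨z, rfl⟩
      refine (chart_iff f hU hV hVU _ hzV).1.2 ?_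
      rwa [hV.fromSpec.isOpenEmbedding.injective (hsp ⟨_, hzV⟩)]
    · exact ⟨hV.primeIdealOf ⟨x, hxV⟩, (chart_iff f hU hV hVU x hxV).1.1 hx, hsp ⟨x, hxV⟩⟩
  · refine ⟨hV.fromSpec '' (PrimeSpectrum.zeroLocus (fitt1 Γ(Y, U) Γ(X, V) : Set Γ(X, V)))ᶜ, ?_,
      hV.fromSpec.isOpenEmbedding.isOpenMap _ (PrimeSpectrum.isClosed_zeroLocus _).isOpen_compl, ?_⟩
    · rintro _ ⟨z, hz, rfl⟩
      have hzV : hV.fromSpec z ∈ V := hV.range_fromSpec.subset ⟨z, rfl⟩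
      refine (chart_iff f hU hV hVU _ hzV).2.2 ?_
      rwa [hV.fromSpec.isOpenEmbedding.injective (hsp ⟨_, hzV⟩)]
    · exact ⟨hV.primeIdealOf ⟨x, hxV⟩, (chart_iff f hU hV hVU x hxV).2.1 hx, hsp ⟨x, hxV⟩⟩

theorem ptProp_T : CurvOpenLib.GenLocus.PtProp.{u} (fun {_ _} h x => T h x) where
  precomp e g _ _ _ x := (precomp_iff e g x).1
  postcomp g j _ _ _ x := (postcomp_iff g j x).1
  baseChange {X Y X' Y' p q f g} _ _ _ _ sq x' := (baseChange_iff sq x').1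
  isOpen f _ _ := (isOpen_T f).1

theorem ptProp_jTop : CurvOpenLib.GenLocus.PtProp.{u} (fun {_ _} h x => JTop h x) where
  precomp e g _ _ _ x := (precomp_iff e g x).2
  postcomp g j _ _ _ x := (postcomp_iff g j x).2
  baseChange {X Y X' Y' p q f g} _ _ _ _ sq x' := (baseChange_iff sq x').2
  isOpen f _ _ := (isOpen_T f).2

theorem ptProp_and {P Q : ∀ {X Y : Scheme.{u}}, (X ⟶ Y) → X → Prop} (hP : CurvOpenLib.GenLocus.PtProp @P)
    (hQ : CurvOpenLib.GenLocus.PtProp @Q) :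
    CurvOpenLib.GenLocus.PtProp.{u} (fun {_ _} h x => P h x ∧ Q h x) where
  precomp e g _ _ _ x := by rw [hP.precomp e g x, hQ.precomp e g x]
  postcomp g j _ _ _ x := by rw [hP.postcomp g j x, hQ.postcomp g j x]
  baseChange sq x' := by rw [hP.baseChange sq x', hQ.baseChange sq x']
  isOpen f _ _ := (hP.isOpen f).inter (hQ.isOpen f)

theorem ptProp_qPt : CurvOpenLib.GenLocus.PtProp.{u} (fun {_ _} h x => QPt h x) :=
  ptProp_and (CurvOpenLib.Inst.ptProp_and_dim CurvOpenLib.Inst.ptProp_cm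
    (fun f _ _ _ h => CurvOpenLib.Inst.cm_dim_const f h) _) ptProp_T

end Groth.Agent.NodalLib
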