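import Groth.Agent.NodalLib.Local
import Mathlib.Algebra.MvPolynomial.PDeriv
import Mathlib.FieldTheory.IsAlgClosed.Basic

/-!
# A rational singular point with `Fitt₁ = 𝔪` has a nondegenerate quadratic relation
-/

set_option autoImplicit false
set_option linter.unusedSectionVars false
set_option linter.style.haveILetI false

universe u

open IsLocalRing Module

namespace Groth.Agent.NodalLib

theorem det_sq_eq_zero {k : Type u} [Field k] {a b c a' b' c' : k} (h : b ^ 2 = 4 * a * c)
    (h' : b' ^ 2 = 4 * a' * c') (hs : (b + b') ^ 2 = 4 * (a + a') * (c + c')) :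
    2 * a * b' - b * (2 * a') = 0 ∧ 2 * a * (2 * c') - b * b' = 0 ∧
      b * b' - 2 * c * (2 * a') = 0 ∧ b * (2 * c') - 2 * c * b' = 0 := by
  have hP : 2 * (2 * a * c' + 2 * a' * c - b * b') = 0 := by linear_combination -hs + h + h'
  refine ⟨?_, ?_, ?_, ?_⟩ <;> rw [← pow_eq_zero_iff two_ne_zero]
  · linear_combination (4 * a * a') * hP + (4 * a' ^ 2) * h + (4 * a ^ 2) * h'
  · linear_combination (4 * a * c') * hP + b' ^ 2 * h + (4 * a * c) * h'
  · linear_combination (4 * a' * c) * hP + b' ^ 2 * h + (4 * a * c) * h'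
  · linear_combination (4 * c * c') * hP + (4 * c' ^ 2) * h + (4 * c ^ 2) * h'

section Taylor

variable {k : Type u} [Field k]

theorem exists_step (p : MvPolynomial (Fin 2) k) :
    ∃ (c : k) (p₀ p₁ : MvPolynomial (Fin 2) k),
      p = MvPolynomial.C c + MvPolynomial.X 0 * p₀ + MvPolynomial.X 1 * p₁ := by
  induction p using MvPolynomial.induction_on with
  | C a => exact ⟨a, 0, 0, by simp⟩
  | add p q hp hq =>
    obtain ⟨c, p₀, p₁, rfl⟩ := hp
    obtain ⟨c', q₀, q₁, rfl⟩ := hq
    exact ⟨c + c', p₀ + q₀, p₁ + q₁, by rw [map_add]; ring⟩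
  | mul_X p i _ =>
    fin_cases i
    · exact ⟨0, p, 0, by simp [mul_comm]⟩
    · exact ⟨0, 0, p, by simp [mul_comm]⟩

/-- The ideal of the variables. -/
noncomputable abbrev vIdeal (k : Type u) [Field k] : Ideal (MvPolynomial (Fin 2) k) :=
  Ideal.span (Set.range MvPolynomial.X)

theorem exists_taylor (p : MvPolynomial (Fin 2) k) :
    ∃ (c α β a b e : k) (r : MvPolynomial (Fin 2) k), r ∈ vIdeal k ^ 3 ∧
      p = MvPolynomial.C c + MvPolynomial.C α * MvPolynomial.X 0 + MvPolynomial.C β * MvPolynomial.X 1 +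
        MvPolynomial.C a * MvPolynomial.X 0 ^ 2 +
        MvPolynomial.C b * (MvPolynomial.X 0 * MvPolynomial.X 1) +
        MvPolynomial.C e * MvPolynomial.X 1 ^ 2 + r := by
  obtain ⟨c, p₀, p₁, rfl⟩ := exists_step p
  obtain ⟨α, p00, p01, rfl⟩ := exists_step p₀
  obtain ⟨β, p10, p11, rfl⟩ := exists_step p₁
  obtain ⟨a, a0, a1, rfl⟩ := exists_step p00
  obtain ⟨b, b0, b1, rfl⟩ := exists_step p01
  obtain ⟨b', b0', b1', rfl⟩ := exists_step p10
  obtain ⟨e, e0, e1, rfl⟩ := exists_step p11
  refine ⟨c, α, β, a, b + b', e,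
    MvPolynomial.X 0 ^ 3 * a0 + MvPolynomial.X 0 ^ 2 * MvPolynomial.X 1 * (a1 + b0 + b0') +
      MvPolynomial.X 0 * MvPolynomial.X 1 ^ 2 * (b1 + b1' + e0) + MvPolynomial.X 1 ^ 3 * e1, ?_, ?_⟩
  · have hx : ∀ i, (MvPolynomial.X i : MvPolynomial (Fin 2) k) ∈ vIdeal k :=
      fun i => Ideal.subset_span ⟨i, rfl⟩
    refine Ideal.add_mem _ (Ideal.add_mem _ (Ideal.add_mem _ ?_ ?_) ?_) ?_ <;>
      refine Ideal.mul_mem_right _ _ ?_
    · exact Ideal.pow_mem_pow (hx 0) 3
    · rw [pow_succ (vIdeal k) 2]
      exact Ideal.mul_mem_mul (Ideal.pow_mem_pow (hx 0) 2) (hx 1)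
    · rw [pow_succ' (vIdeal k) 2]
      exact Ideal.mul_mem_mul (hx 0) (Ideal.pow_mem_pow (hx 1) 2)
    · exact Ideal.pow_mem_pow (hx 1) 3
  · rw [map_add]; ring

end Taylor

variable {k A : Type u} [Field k] [CommRing A] [IsLocalRing A] [IsNoetherianRing A] [Algebra k A]

theorem mem_range_aeval_sup (hres : Function.Bijective (algebraMap k (ResidueField A))) (x : Fin 2 → A)
    (hx : maximalIdeal A = Ideal.span (Set.range x)) :
    ∀ (n : ℕ) (s : A), ∃ p : MvPolynomial (Fin 2) k, s - MvPolynomial.aeval x p ∈ maximalIdeal A ^ n := by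
  intro n
  induction n with
  | zero => exact fun s => ⟨0, by simp⟩
  | succ n ih =>
    intro s
    obtain ⟨c, hc⟩ := exists_const hres s
    have hc' := hc
    rw [hx, Ideal.mem_span_range_iff_exists_fun] at hc'
    obtain ⟨w, hw⟩ := hc'
    rw [Fin.sum_univ_two] at hw
    obtain ⟨p₀, h₀⟩ := ih (w 0)
    obtain ⟨p₁, h₁⟩ := ih (w 1)
    refine ⟨MvPolynomial.C c + p₀ * MvPolynomial.X 0 + p₁ * MvPolynomial.X 1, ?_⟩
    have e : s - MvPolynomial.aeval x (MvPolynomial.C c + p₀ * MvPolynomial.X 0 + p₁ * MvPolynomial.X 1) =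
        (w 0 - MvPolynomial.aeval x p₀) * x 0 + (w 1 - MvPolynomial.aeval x p₁) * x 1 := by
      simp only [map_add, map_mul, MvPolynomial.aeval_C, MvPolynomial.aeval_X]
      linear_combination -hw
    rw [e, pow_succ]
    have hxm : ∀ i, x i ∈ maximalIdeal A := fun i => hx ▸ Ideal.subset_span ⟨i, rfl⟩
    exact Ideal.add_mem _ (Ideal.mul_mem_mul h₀ (hxm 0)) (Ideal.mul_mem_mul h₁ (hxm 1))

/- If `Fitt₁ = 𝔪` at a rational point then some relation has a nondegenerate quadratic part. -/
set_option maxHeartbeats 800000 in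
-- long proof
theorem exists_quad (hres : Function.Bijective (algebraMap k (ResidueField A))) [Module.Finite A Ω[A⁄k]]
    (hJ : fitt1 k A = maximalIdeal A) :
    ∃ (x y : A) (a b c : k), maximalIdeal A = Ideal.span {x, y} ∧ 4 * a * c - b ^ 2 ≠ 0 ∧
      algebraMap k A a * x ^ 2 + algebraMap k A b * (x * y) + algebraMap k A c * y ^ 2 ∈
        maximalIdeal A ^ 3 := by
  obtain ⟨x, hx, B, hB⟩ : ∃ x : Fin 2 → maximalIdeal A,
      Ideal.span (Set.range fun i => (x i : A)) = maximalIdeal A ∧
      ∃ B : Basis (Fin 2) (ResidueField A) (CotangentSpace A),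
        ∀ i, (maximalIdeal A).toCotangent (x i) = B i := by
    rw [← finrank_eq_two hres hJ]
    exact exists_gens
  by_contra hcon
  let m : Ideal A := maximalIdeal A
  let X : A := x 0
  let Y : A := x 1
  have hspan : maximalIdeal A = Ideal.span {X, Y} := by
    rw [← hx]
    congr 1
    ext t
    simp [Fin.exists_fin_two, eq_comm, X, Y]
  let q : k → k → k → A := fun a b c =>
    algebraMap k A a * X ^ 2 + algebraMap k A b * (X * Y) + algebraMap k A c * Y ^ 2
  have hdeg : ∀ a b c, q a b c ∈ m ^ 3 → b ^ 2 = 4 * a * c := fun a b c h => by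
    by_contra hne
    exact hcon ⟨X, Y, a, b, c, hspan, fun h0 => hne (sub_eq_zero.1 h0).symm, h⟩
  -- coordinates on the cotangent space
  obtain ⟨D₀, hD₀⟩ := exists_derivation hres (B.coord 0)
  obtain ⟨D₁, hD₁⟩ := exists_derivation hres (B.coord 1)
  have d00 : D₀ X = 1 := by simp [X, hD₀, hB]
  have d01 : D₀ Y = 0 := by simp [Y, hD₀, hB]
  have d10 : D₁ X = 0 := by simp [X, hD₁, hB]
  have d11 : D₁ Y = 1 := by simp [Y, hD₁, hB]
  have hXm : X ∈ m := (x 0).2
  have hYm : Y ∈ m := (x 1).2
  have hkill : ∀ (D : Derivation k A (ResidueField A)) (s : A), s ∈ m ^ 2 → D s = 0 := fun D s hs => by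
    have h := derivation_mem_pow_smul D m 1 hs
    rw [pow_one] at h
    refine Submodule.smul_induction_on (p := fun v => v = 0) h (fun r hr v _ => ?_) ?_
    · rw [Algebra.smul_def, ResidueField.algebraMap_eq, (residue_eq_zero_iff _).2 hr, zero_mul]
    · rintro v w rfl rfl; rw [add_zero]
  have hsm : ∀ (D : Derivation k A (ResidueField A)) (r s : A), s ∈ m →
      D (r * s) = residue A r * D s := fun D r s hs => by
    rw [Derivation.leibniz, Algebra.smul_def, Algebra.smul_def, ResidueField.algebraMap_eq,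
      (residue_eq_zero_iff s).2 hs, zero_mul, add_zero]
  have hres' : ∀ u : k, residue A (algebraMap k A u) = algebraMap k (ResidueField A) u := fun u =>
    (IsScalarTower.algebraMap_apply k A (ResidueField A) u).symm
  have hcoord : ∀ (u v : k), D₀ (algebraMap k A u * X + algebraMap k A v * Y) = algebraMap k _ u ∧
      D₁ (algebraMap k A u * X + algebraMap k A v * Y) = algebraMap k _ v := fun u v => by
    constructor <;>
      simp only [map_add, hsm _ _ _ hXm, hsm _ _ _ hYm, d00, d01, d10, d11, hres', mul_one, mul_zero,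
        add_zero, zero_add]
  -- the ideal of linear parts of partial derivatives
  let gens : Set A := {s | ∃ a b c, q a b c ∈ m ^ 3 ∧
    (s = algebraMap k A (2 * a) * X + algebraMap k A b * Y ∨
      s = algebraMap k A b * X + algebraMap k A (2 * c) * Y)}
  let S₀ : Ideal A := Ideal.span gens ⊔ m ^ 2
  have haeval : ∀ {p : MvPolynomial (Fin 2) k} {n : ℕ}, p ∈ vIdeal k ^ n →
      MvPolynomial.aeval (fun i => (x i : A)) p ∈ m ^ n := by
    intro p n hp
    have h := Ideal.mem_map_of_mem (MvPolynomial.aeval (R := k) fun i => (x i : A)).toRingHom hp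
    rw [Ideal.map_pow] at h
    refine Ideal.pow_right_mono ?_ n h
    rw [Ideal.map_le_iff_le_comap, Ideal.span_le]
    rintro _ ⟨i, rfl⟩
    simp [m, (x i).2]
  let G : Fin 2 → MvPolynomial (Fin 2) k → A ⧸ S₀ := fun j p =>
    Ideal.Quotient.mk S₀ (MvPolynomial.aeval (fun i => (x i : A)) (MvPolynomial.pderiv j p))
  have hG : ∀ p, MvPolynomial.aeval (fun i => (x i : A)) p ∈ m ^ 3 → ∀ j, G j p = 0 := by
    intro p hp j
    obtain ⟨c0, α, β, a, b, e, r, hr, rfl⟩ := exists_taylor p
    have hr2 : MvPolynomial.aeval (fun i => (x i : A)) r ∈ m ^ 3 := haeval hr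
    simp only [map_add, map_mul, map_pow, MvPolynomial.aeval_C, MvPolynomial.aeval_X] at hp
    change algebraMap k A c0 + algebraMap k A α * X + algebraMap k A β * Y + algebraMap k A a * X ^ 2 +
      algebraMap k A b * (X * Y) + algebraMap k A e * Y ^ 2 + MvPolynomial.aeval (fun i => (x i : A)) r ∈ m ^ 3 at hp
    replace hp := (m ^ 3).sub_mem hp hr2
    rw [add_sub_cancel_right] at hp
    have hrest : algebraMap k A α * X + algebraMap k A β * Y + algebraMap k A a * X ^ 2 +
        algebraMap k A b * (X * Y) + algebraMap k A e * Y ^ 2 ∈ m := by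
      refine m.add_mem (m.add_mem (m.add_mem (m.add_mem ?_ ?_) ?_) ?_) ?_ <;>
        refine m.mul_mem_left _ ?_
      · exact hXm
      · exact hYm
      · exact m.pow_mem_of_mem hXm 2 two_pos
      · exact m.mul_mem_right _ hXm
      · exact m.pow_mem_of_mem hYm 2 two_pos
    have hc0 : c0 = 0 := by
      refine const_eq_zero (A := A) ?_
      have := m.sub_mem (Ideal.pow_le_self three_ne_zero hp) hrest
      convert this using 1
      ring
    subst hc0
    rw [map_zero, zero_add] at hp
    have hm2 : algebraMap k A a * X ^ 2 + algebraMap k A b * (X * Y) + algebraMap k A e * Y ^ 2 ∈ m ^ 2 := by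
      refine Ideal.add_mem _ (Ideal.add_mem _ ?_ ?_) ?_ <;> refine Ideal.mul_mem_left _ _ ?_
      · exact Ideal.pow_mem_pow hXm 2
      · rw [sq]; exact Ideal.mul_mem_mul hXm hYm
      · exact Ideal.pow_mem_pow hYm 2
    have hlin : algebraMap k A α * X + algebraMap k A β * Y ∈ m ^ 2 := by
      have := (m ^ 2).sub_mem (Ideal.pow_le_pow_right (show 2 ≤ 3 by norm_num) hp) hm2
      convert this using 1
      ring
    have hα : α = 0 := (map_eq_zero (algebraMap k (ResidueField A))).1 ((hcoord α β).1.symm.trans (hkill D₀ _ hlin))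
    have hβ : β = 0 := (map_eq_zero (algebraMap k (ResidueField A))).1 ((hcoord α β).2.symm.trans (hkill D₁ _ hlin))
    subst hα hβ
    rw [map_zero, zero_mul, zero_mul, zero_add, zero_add] at hp
    refine Ideal.Quotient.eq_zero_iff_mem.2 ?_
    have hrj : MvPolynomial.aeval (fun i => (x i : A)) (MvPolynomial.pderiv j r) ∈ m ^ 2 := by
      have h := derivation_mem_pow_smul (MvPolynomial.pderiv j) (vIdeal k) 2 hr
      rw [smul_eq_mul, Ideal.mul_top] at h
      exact haeval h
    simp only [map_add, map_zero, zero_mul, zero_add]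
    refine S₀.add_mem ?_ (Submodule.mem_sup_right hrj)
    refine Submodule.mem_sup_left (Ideal.subset_span ⟨a, b, e, hp, ?_⟩)
    fin_cases j
    · left
      simp [MvPolynomial.pderiv_X, X, Y, Pi.single_apply, map_ofNat]
      ring
    · right
      simp [MvPolynomial.pderiv_X, X, Y, Pi.single_apply, map_ofNat]
      ring
  choose P hP using mem_range_aeval_sup hres (fun i => (x i : A)) hx.symm 3
  have huniq : ∀ (j : Fin 2) (s : A) (p : MvPolynomial (Fin 2) k),
      s - MvPolynomial.aeval (fun i => (x i : A)) p ∈ m ^ 3 → G j p = G j (P s) := fun j s p hp => by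
    refine sub_eq_zero.1 ?_
    have h : G j (p - P s) = 0 := hG (p - P s) (by
      have := (m ^ 3).sub_mem (hP s) hp
      rwa [sub_sub_sub_cancel_left, ← map_sub] at this) j
    simpa [G] using h
  have hsmul : ∀ (s : A) (v : A ⧸ S₀), Ideal.Quotient.mk S₀ (MvPolynomial.aeval (fun i => (x i : A)) (P s)) * v =
      s • v := fun s v => by
    rw [Algebra.smul_def, Ideal.Quotient.algebraMap_eq]
    congr 1
    refine Ideal.Quotient.eq.2 (Submodule.mem_sup_right ?_)
    rw [← neg_sub]
    exact Ideal.neg_mem_iff _ |>.2 (Ideal.pow_le_pow_right (show 2 ≤ 3 by norm_num) (hP s))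
  have hder : ∀ j, ∃ D : Derivation k A (A ⧸ S₀), ∀ s, D s = G j (P s) := fun j => by
    let L : A →ₗ[k] A ⧸ S₀ :=
      { toFun := fun s => G j (P s)
        map_add' := fun s t => by
          rw [← huniq j (s + t) (P s + P t) (by
            have := (m ^ 3).add_mem (hP s) (hP t)
            convert this using 1
            rw [map_add]; ring)]
          simp [G]
        map_smul' := fun c s => by
          rw [← huniq j (c • s) (c • P s) (by
            rw [map_smul, ← smul_sub, Algebra.smul_def]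
            exact (m ^ 3).mul_mem_left _ (hP s))]
          show Ideal.Quotient.mk S₀ _ = c • Ideal.Quotient.mk S₀ _
          rw [Derivation.map_smul, map_smul]
          exact map_smul (Ideal.Quotient.mkₐ k S₀) c _ }
    refine ⟨Derivation.mk' L fun s t => ?_, fun s => rfl⟩
    show G j (P (s * t)) = s • G j (P t) + t • G j (P s)
    rw [← huniq j (s * t) (P s * P t) (by
      have := (m ^ 3).add_mem ((m ^ 3).mul_mem_right t (hP s))
        ((m ^ 3).mul_mem_left (MvPolynomial.aeval (fun i => (x i : A)) (P s)) (hP t))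
      convert this using 1
      rw [map_mul]; ring), ← hsmul, ← hsmul]
    simp only [G, Derivation.leibniz, smul_eq_mul, map_add, map_mul]
  have hentry : fitt1 k A ≤ S₀ := by
    rw [fitt1, FittX.ideal_eq_minors _ (span_D_eq_top hres _ hx), FittX.minors_rel_eq_span, Ideal.span_le]
    rintro d ⟨z, e, hz, rfl⟩
    show (Matrix.of fun b a => z b (e a) : Matrix (Fin 1) (Fin 1) A).det ∈ S₀
    rw [Matrix.det_fin_one]
    show z 0 (e 0) ∈ S₀
    obtain ⟨D, hD⟩ := hder (e 0)
    have h := congrArg D.liftKaehlerDifferential (FittX.mem_rel.1 (hz 0))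
    simp only [map_sum, map_smul, map_zero, Derivation.liftKaehlerDifferential_comp_D] at h
    have hval : ∀ i, D (x i : A) = if e 0 = i then 1 else 0 := fun i => by
      rw [hD, ← huniq (e 0) (x i : A) (MvPolynomial.X i) (by simp)]
      by_cases hi : e 0 = i
      · simp [G, hi]
      · simp [G, hi, MvPolynomial.pderiv_X_of_ne (Ne.symm hi)]
    simp only [hval, smul_ite, smul_zero, Finset.sum_ite_eq, Finset.mem_univ, if_true] at h
    rw [Algebra.smul_def, mul_one, Ideal.Quotient.algebraMap_eq] at h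
    exact Ideal.Quotient.eq_zero_iff_mem.1 h
  -- all linear parts are proportional
  let dt : A → A → ResidueField A := fun s t => D₀ s * D₁ t - D₁ s * D₀ t
  have hgm : ∀ g ∈ gens, g ∈ m := by
    rintro g ⟨a, b, c, -, rfl | rfl⟩ <;>
      exact m.add_mem (m.mul_mem_left _ hXm) (m.mul_mem_left _ hYm)
  have hS₀m : S₀ ≤ m := sup_le (Ideal.span_le.2 hgm) (Ideal.pow_le_self two_ne_zero)
  have hdt : ∀ g ∈ gens, ∀ g' ∈ gens, dt g g' = 0 := by
    intro g hg g' hg'
    obtain ⟨a, b, c, hq, hg⟩ := hg
    obtain ⟨a', b', c', hq', hg'⟩ := hg'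
    have hs : q (a + a') (b + b') (c + c') ∈ m ^ 3 := by
      have := (m ^ 3).add_mem hq hq'
      convert this using 1
      simp only [q, map_add]; ring
    obtain ⟨e1, e2, e3, e4⟩ := det_sq_eq_zero (hdeg _ _ _ hq) (hdeg _ _ _ hq') (hdeg _ _ _ hs)
    replace e1 := congrArg (algebraMap k (ResidueField A)) e1
    replace e2 := congrArg (algebraMap k (ResidueField A)) e2
    replace e3 := congrArg (algebraMap k (ResidueField A)) e3
    replace e4 := congrArg (algebraMap k (ResidueField A)) e4
    simp only [map_sub, map_mul, map_zero] at e1 e2 e3 e4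
    rcases hg with rfl | rfl <;> rcases hg' with rfl | rfl <;>
      simp only [dt, hcoord] <;> simp only [map_mul] <;> assumption
  have hdt1 : ∀ g ∈ gens, ∀ t ∈ S₀, dt g t = 0 := fun g hg t ht => by
    obtain ⟨t₁, ht₁, t₂, ht₂, rfl⟩ := Submodule.mem_sup.1 ht
    have h2 : dt g t₂ = 0 := by simp [dt, hkill _ _ ht₂]
    have h1 : dt g t₁ = 0 := by
      clear ht
      induction ht₁ using Submodule.span_induction with
      | mem u hu => exact hdt g hg u hu
      | zero => simp [dt]
      | add u v _ _ hu hv =>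
        simp only [dt, map_add] at hu hv ⊢
        linear_combination hu + hv
      | smul r u hu' hu =>
        simp only [dt, smul_eq_mul, hsm _ r u (hS₀m (Submodule.mem_sup_left hu'))] at hu ⊢
        linear_combination residue A r * hu
    simp only [dt, map_add] at h1 h2 ⊢
    linear_combination h1 + h2
  have hdt2 : ∀ s ∈ S₀, ∀ t ∈ S₀, dt s t = 0 := fun s hs t ht => by
    obtain ⟨s₁, hs₁, s₂, hs₂, rfl⟩ := Submodule.mem_sup.1 hs
    have h2 : dt s₂ t = 0 := by simp [dt, hkill _ _ hs₂]
    have h1 : dt s₁ t = 0 := by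
      clear hs
      induction hs₁ using Submodule.span_induction with
      | mem u hu => exact hdt1 u hu t ht
      | zero => simp [dt]
      | add u v _ _ hu hv =>
        simp only [dt, map_add] at hu hv ⊢
        linear_combination hu + hv
      | smul r u hu' hu =>
        simp only [dt, smul_eq_mul, hsm _ r u (hS₀m (Submodule.mem_sup_left hu'))] at hu ⊢
        linear_combination residue A r * hu
    simp only [dt, map_add] at h1 h2 ⊢
    linear_combination h1 + h2
  have := hdt2 X (hentry (hJ ▸ hXm)) Y (hentry (hJ ▸ hYm))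
  simp [dt, d00, d01, d10, d11] at this

/-- Over an algebraically closed field the quadratic relation splits. -/
theorem exists_pair [IsAlgClosed k] (hres : Function.Bijective (algebraMap k (ResidueField A)))
    [Module.Finite A Ω[A⁄k]] (hJ : fitt1 k A = maximalIdeal A) :
    ∃ u v : A, maximalIdeal A = Ideal.span {u, v} ∧ u * v ∈ maximalIdeal A ^ 3 := by
  obtain ⟨x, y, a, b, c, hm, hd, hq⟩ := exists_quad hres hJ
  have hmem : ∀ {u v : A}, x ∈ Ideal.span {u, v} → y ∈ Ideal.span {u, v} →
      u ∈ Ideal.span {x, y} → v ∈ Ideal.span {x, y} → maximalIdeal A = Ideal.span {u, v} :=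
    fun {u v} h1 h2 h3 h4 => hm.trans (le_antisymm
      (Ideal.span_le.2 (Set.insert_subset h1 (Set.singleton_subset_iff.2 h2)))
      (Ideal.span_le.2 (Set.insert_subset h3 (Set.singleton_subset_iff.2 h4))))
  let al := algebraMap k A
  by_cases ha : a = 0
  · subst ha
    have hb : b ≠ 0 := by rintro rfl; simp at hd
    refine ⟨y, al b * x + al c * y, hmem ?_ ?_ ?_ ?_, ?_⟩
    · rw [Ideal.mem_span_pair]
      refine ⟨-(al (b⁻¹ * c)), al b⁻¹, ?_⟩
      have : al b⁻¹ * al b = 1 := by rw [← map_mul, inv_mul_cancel₀ hb, map_one]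
      rw [map_mul]
      linear_combination x * this
    · exact Ideal.subset_span (by simp)
    · exact Ideal.subset_span (by simp)
    · exact Ideal.mem_span_pair.2 ⟨_, _, rfl⟩
    · convert hq using 1
      simp [al]; ring
  · obtain ⟨r, hr⟩ := IsAlgClosed.exists_root (Polynomial.C a * Polynomial.X ^ 2 + Polynomial.C b * Polynomial.X + Polynomial.C c)
      (by rw [Polynomial.degree_quadratic ha]; norm_num)
    simp only [Polynomial.IsRoot, Polynomial.eval_add, Polynomial.eval_mul, Polynomial.eval_C,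
      Polynomial.eval_pow, Polynomial.eval_X] at hr
    let s : k := -b / a - r
    have hs : a * s = -b - a * r := by simp only [s]; field_simp
    have hrs : a * r * s = c := by linear_combination r * hs - hr
    have hne : r - s ≠ 0 := fun h => hd (by
      have h' : r = s := sub_eq_zero.1 h
      rw [← h'] at hs hrs
      linear_combination (-4 * a) * hrs + (2 * a * r - b) * hs)
    refine ⟨al a * (x - al r * y), x - al s * y, hmem ?_ ?_ ?_ ?_, ?_⟩
    · rw [Ideal.mem_span_pair]
      refine ⟨-(al (s * a⁻¹ * (r - s)⁻¹)), al (r * (r - s)⁻¹), ?_⟩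
      have h1 : al a⁻¹ * al a = 1 := by rw [← map_mul, inv_mul_cancel₀ ha, map_one]
      have h2 : (al r - al s) * al (r - s)⁻¹ = 1 := by
        rw [← map_sub, ← map_mul, mul_inv_cancel₀ hne, map_one]
      simp only [map_mul]
      linear_combination x * h2 - (al s * al (r - s)⁻¹ * (x - al r * y)) * h1
    · rw [Ideal.mem_span_pair]
      refine ⟨-(al (a⁻¹ * (r - s)⁻¹)), al (r - s)⁻¹, ?_⟩
      have h1 : al a⁻¹ * al a = 1 := by rw [← map_mul, inv_mul_cancel₀ ha, map_one]
      have h2 : (al r - al s) * al (r - s)⁻¹ = 1 := by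
        rw [← map_sub, ← map_mul, mul_inv_cancel₀ hne, map_one]
      simp only [map_mul]
      linear_combination y * h2 - (al (r - s)⁻¹ * (x - al r * y)) * h1
    · exact Ideal.mem_span_pair.2 ⟨al a, -(al a * al r), by ring⟩
    · exact Ideal.mem_span_pair.2 ⟨1, -al s, by ring⟩
    · convert hq using 1
      have e1 : al a * (al r + al s) = -al b := by
        rw [← map_add, ← map_mul, ← map_neg]; congr 1; linear_combination hs
      have e2 : al a * al r * al s = al c := by rw [← map_mul, ← map_mul, hrs]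
      linear_combination (-(x * y)) * e1 + y ^ 2 * e2

end Groth.Agent.NodalLib
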